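import Groth.Agent.EGA43Valuative.DominatingDVR
import Groth.Agent.Calg1.CompletionLocal
import Mathlib.RingTheory.Henselian
import Mathlib.RingTheory.DedekindDomain.Dvr
import Mathlib.RingTheory.AdicCompletion.LocalRing

/-!
# Discrete valuation rings in finite extensions, and their completions
-/

set_option autoImplicit false
universe u

open IsLocalRing

noncomputable section

namespace Groth.PicSmooth

/-- In a finite extension of the fraction field of a discrete valuation ring there is a dominating
discrete valuation ring with the extension as fraction field. -/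
theorem exists_dvr_ext (A : Type u) [CommRing A] [IsDomain A] [IsDiscreteValuationRing A]
    (L : Type u) [Field L] (ψ : FractionRing A →+* L) (hψ : ψ.Finite) :
    ∃ (A' : Type u) (_ : CommRing A') (_ : IsDomain A') (_ : IsDiscreteValuationRing A')
      (_ : Algebra A' L) (_ : IsFractionRing A' L) (ι : A →+* A'),
      IsLocalHom ι ∧ (algebraMap A' L).comp ι = ψ.comp (algebraMap A (FractionRing A)) := by
  algebraize [ψ]
  let _ : Algebra A L := (ψ.comp (algebraMap A (FractionRing A))).toAlgebra
  have : IsScalarTower A (FractionRing A) L := IsScalarTower.of_algebraMap_eq fun _ => rfl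
  have : FiniteDimensional (FractionRing A) L := ‹Module.Finite (FractionRing A) L›
  obtain ⟨C, M, hC, hCL, hM, hM0, hMc⟩ := Groth.EGA43Val.exists_dvr_dominating_of_finite A
    (FractionRing A) (IsDiscreteValuationRing.not_isField A) L
  let A' := Localization.AtPrime M
  have : IsDiscreteValuationRing A' :=
    IsLocalization.AtPrime.isDiscreteValuationRing_of_dedekind_domain C hM0 A'
  let _ : Algebra A' L := (IsLocalization.lift (M := M.primeCompl) (g := algebraMap C L)
    fun y => (map_ne_zero_iff _ (IsFractionRing.injective C L)).2
      (fun h => y.2 (h ▸ M.zero_mem)) |> IsUnit.mk0 _).toAlgebra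
  have : IsScalarTower C A' L := IsScalarTower.of_algebraMap_eq fun c =>
    (IsLocalization.lift_eq _ c).symm
  have : IsFractionRing A' L :=
    IsFractionRing.isFractionRing_of_isDomain_of_isLocalization M.primeCompl A' L
  refine ⟨A', inferInstance, inferInstance, inferInstance, inferInstance, inferInstance,
    (algebraMap C A').comp (algebraMap A C), ⟨fun a ha => ?_⟩, RingHom.ext fun a => ?_⟩
  · by_contra hu
    have h1 : algebraMap A C a ∈ M := by
      have : a ∈ M.comap (algebraMap A C) := hMc ▸ hu
      exact this
    exact (IsLocalization.AtPrime.isUnit_to_map_iff A' M _).1 ha h1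
  · change algebraMap A' L (algebraMap C A' (algebraMap A C a)) = _
    rw [← IsScalarTower.algebraMap_apply C A' L]
    rfl

/-- In a finite extension of the fraction field of a discrete valuation ring there is, after a
further extension, a dominating henselian discrete valuation ring. -/
theorem exists_henselian_ext (A : Type u) [CommRing A] [IsDomain A] [IsDiscreteValuationRing A]
    (L : Type u) [Field L] (ψ : FractionRing A →+* L) (hψ : ψ.Finite) :
    ∃ (B : Type u) (_ : CommRing B) (_ : IsDomain B) (_ : IsDiscreteValuationRing B)
      (_ : HenselianRing B (maximalIdeal B)) (ι : A →+* B) (χ : L →+* FractionRing B),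
      IsLocalHom ι ∧ (algebraMap B (FractionRing B)).comp ι =
        (χ.comp ψ).comp (algebraMap A (FractionRing A)) := by
  obtain ⟨A', _, _, _, _, _, ι, hι, hcomm⟩ := exists_dvr_ext A L ψ hψ
  obtain ⟨hd, hdvr⟩ := (Groth.Calg1.isDVR_iff_adicCompletion A').1 ⟨inferInstance, inferInstance⟩
  let B := AdicCompletion (maximalIdeal A') A'
  have : IsAdicComplete (maximalIdeal B) B := by
    rw [AdicCompletion.maximalIdeal_eq_map]
    exact AdicCompletion.isAdicComplete_self _ (maximalIdeal A').fg_of_isNoetherianRing
  have hloc : IsLocalHom (algebraMap A' B) :=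
    ((local_hom_TFAE (algebraMap A' B)).out 0 2).mpr AdicCompletion.maximalIdeal_eq_map.ge
  have hinj : Function.Injective (algebraMap A' B) := by
    rw [injective_iff_map_eq_zero]
    intro a ha
    by_contra h0
    obtain ⟨ϖ, hϖ⟩ := IsDiscreteValuationRing.exists_irreducible A'
    obtain ⟨n, w, rfl⟩ := IsDiscreteValuationRing.eq_unit_mul_pow_irreducible h0 hϖ
    rw [map_mul, map_pow, mul_eq_zero, or_iff_right (w.isUnit.map _).ne_zero] at ha
    have h1 : algebraMap A' B ϖ = 0 := eq_zero_of_pow_eq_zero ha
    apply IsDiscreteValuationRing.not_a_field B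
    rw [AdicCompletion.maximalIdeal_eq_map, eq_bot_iff, Ideal.map_le_iff_le_comap]
    intro x hx
    obtain ⟨b, rfl⟩ := Ideal.mem_span_singleton.1 (hϖ.maximalIdeal_eq.le hx)
    exact map_mul (algebraMap A' B) ϖ b |>.trans (by rw [h1, zero_mul])
  let χ : L →+* FractionRing B := IsFractionRing.lift (A := A')
    (g := (algebraMap B (FractionRing B)).comp (algebraMap A' B))
    ((IsFractionRing.injective B (FractionRing B)).comp hinj)
  refine ⟨B, inferInstance, hd, hdvr, inferInstance, (algebraMap A' B).comp ι, χ,
    RingHom.isLocalHom_comp _ _, RingHom.ext fun a => ?_⟩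
  change algebraMap B (FractionRing B) (algebraMap A' B (ι a)) =
    χ (ψ (algebraMap A (FractionRing A) a))
  rw [← RingHom.comp_apply ψ, ← hcomm, RingHom.comp_apply, IsFractionRing.lift_algebraMap]
  rfl

end Groth.PicSmooth
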