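import Groth.Agent.PicSmooth.GenCore
import Groth.Agent.PicAux.Pullback
import Groth.Agent.HensPair.ProperClopen
import Groth.Agent.CohFin.ProjFinite
import Groth.Agent.Agf.RegularPoints
import Mathlib.RingTheory.DiscreteValuationRing.Basic

/-!
# Invertible modules on smooth proper schemes over henselian discrete valuation rings
-/

set_option autoImplicit false
universe u

open CategoryTheory Limits AlgebraicGeometry Opposite TopologicalSpace IsLocalRing

noncomputable section

namespace Groth.PicSmooth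

open Groth.PicAux Groth.HensPair

variable {X : Scheme.{u}}

/-- A point of a divisor with prime ideal in the local ring has a greatest generalisation in it. -/
theorem exists_maximal_generalisation (p : Γ(X, ⊤)) (x : X) (hx : x ∉ X.basicOpen p)
    (hprime : (Ideal.span {X.presheaf.germ ⊤ x trivial p}).IsPrime) :
    ∃ η : X, η ∉ X.basicOpen p ∧ η ⤳ x ∧ ∀ z, z ∉ X.basicOpen p → z ⤳ x → η ⤳ z := by
  let η := X.fromSpecStalk x ⟨_, hprime⟩
  have key : ∀ q : Spec (X.presheaf.stalk x),
      X.fromSpecStalk x q ∈ X.basicOpen p ↔ X.presheaf.germ ⊤ x trivial p ∉ q.asIdeal := by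
    intro q
    have h : X.fromSpecStalk x ⁻¹ᵁ X.basicOpen p =
        (Spec (X.presheaf.stalk x)).basicOpen ((X.fromSpecStalk x).appTop p) :=
      Scheme.preimage_basicOpen _ _
    rw [← Scheme.Hom.mem_preimage, h, Scheme.fromSpecStalk_appTop]
    change q ∈ (Spec (X.presheaf.stalk x)).basicOpen (U := X.fromSpecStalk x ⁻¹ᵁ ⊤)
      (resX (Spec (X.presheaf.stalk x)) le_top ((Scheme.ΓSpecIso (X.presheaf.stalk x)).inv
        (X.presheaf.germ ⊤ x trivial p))) ↔ _
    erw [Scheme.basicOpen_res, basicOpen_eq_of_affine]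
    exact (and_iff_right trivial).trans (PrimeSpectrum.mem_basicOpen _ _)
  refine ⟨η, fun h => (key _).1 h (Ideal.mem_span_singleton_self _), ?_, fun z hz hzx => ?_⟩
  · have : η ∈ Set.range (X.fromSpecStalk x) := ⟨_, rfl⟩
    rw [Scheme.range_fromSpecStalk] at this
    exact this
  · have hzr : z ∈ Set.range (X.fromSpecStalk x) := by rwa [Scheme.range_fromSpecStalk]
    obtain ⟨q, rfl⟩ := hzr
    refine ((PrimeSpectrum.le_iff_specializes _ q).1 ?_).map (X.fromSpecStalk x).continuous
    change Ideal.span _ ≤ q.asIdeal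
    rw [Ideal.span_le, Set.singleton_subset_iff]
    by_contra hc
    exact hz ((key q).2 hc)

variable {R : Type u} [CommRing R] [IsDomain R] [IsDiscreteValuationRing R]

/-- The equation of the special fibre. -/
abbrev eqn (π : X ⟶ Spec (CommRingCat.of R)) (ϖ : R) : Γ(X, ⊤) := toΓ π ϖ

omit [IsDomain R] [IsDiscreteValuationRing R] in
theorem germ_eqn (π : X ⟶ Spec (CommRingCat.of R)) (ϖ : R) (x : X) :
    X.presheaf.germ ⊤ x trivial (eqn π ϖ) =
      π.stalkMap x ((Spec (CommRingCat.of R)).presheaf.germ ⊤ (π x) trivial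
        ((Scheme.ΓSpecIso (CommRingCat.of R)).inv ϖ)) := by
  rw [Scheme.Hom.germ_stalkMap_apply]
  rfl

variable {ϖ : R} (hϖ : Irreducible ϖ)

include hϖ in
theorem eqn_regular (π : X ⟶ Spec (CommRingCat.of R)) [Flat π] (x : X) :
    IsSMulRegular (X.presheaf.stalk x) (X.presheaf.germ ⊤ x trivial (eqn π ϖ)) := by
  rw [germ_eqn]
  let A := (Spec (CommRingCat.of R)).presheaf.stalk (π x)
  let _ := (π.stalkMap x).hom.toAlgebra
  have : Module.Flat A (X.presheaf.stalk x) := Flat.stalkMap π x
  let _ : Algebra R A := StructureSheaf.stalkAlgebra R (π x)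
  have : IsLocalization.AtPrime A (π x).asIdeal := StructureSheaf.IsLocalization.to_stalk R (π x)
  have : Module.Flat R A := IsLocalization.flat A (π x).asIdeal.primeCompl
  have h1 : IsSMulRegular A (algebraMap R A ϖ) := by
    have h0 : IsSMulRegular R ϖ := (IsRegular.of_ne_zero hϖ.ne_zero).left.isSMulRegular
    exact IsSMulRegular.of_flat h0
  exact IsSMulRegular.of_flat h1

include hϖ in
theorem eqn_prime (π : X ⟶ Spec (CommRingCat.of R)) [Smooth π] (x : X)
    (hx : π x = closedPoint R) :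
    (Ideal.span {X.presheaf.germ ⊤ x trivial (eqn π ϖ)}).IsPrime := by
  rw [germ_eqn]
  let A := (Spec (CommRingCat.of R)).presheaf.stalk (π x)
  let _ := (π.stalkMap x).hom.toAlgebra
  let _ : Algebra R A := StructureSheaf.stalkAlgebra R (π x)
  have : IsLocalization.AtPrime A (π x).asIdeal := StructureSheaf.IsLocalization.to_stalk R (π x)
  obtain ⟨e⟩ := Groth.Ega4b.nonempty_fiberStalk_equiv π x
  have : IsRegularLocalRing (CInt.fiberStalk π x) :=
    Groth.CMMor.isRegularLocalRing_stalk_fiber π (π x) (π.asFiber x)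
  have hd : IsDomain (CInt.fiberStalk π x) :=
    Groth.Ega4Algebra1.isDomain_of_isRegularLocalRing _
  have hm : maximalIdeal A = Ideal.span {algebraMap R A ϖ} := by
    rw [← IsLocalization.AtPrime.map_eq_maximalIdeal (π x).asIdeal A, hx,
      show (closedPoint R).asIdeal = maximalIdeal R from rfl, hϖ.maximalIdeal_eq,
      Ideal.map_span, Set.image_singleton]
  have : IsDomain (X.presheaf.stalk x ⧸ (maximalIdeal A).map
      (algebraMap A (X.presheaf.stalk x))) := e.toMulEquiv.isDomain
  have := (Ideal.Quotient.isDomain_iff_prime _).1 this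
  rw [hm, Ideal.map_span, Set.image_singleton] at this
  exact this

variable [HenselianRing R (maximalIdeal R)]

/-- An invertible module on a smooth proper scheme over a henselian discrete valuation ring which is
trivial on the generic fibre is trivial. -/
theorem trivial_of_generic (π : X ⟶ Spec (CommRingCat.of R)) [IsProper π] [Smooth π]
    {L : X.Modules} (hL : PicF.IsInvertible L) (hϖ : Irreducible ϖ)
    (e₀ : Γ(L, X.basicOpen (eqn π ϖ))) (he₀ : Gen L (X.basicOpen (eqn π ϖ)) e₀) :
    Nonempty (L ≅ Coh.structureModule X) := by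
  classical
  let p := eqn π ϖ
  have hF : ∀ x : X, x ∉ X.basicOpen p ↔ π x = closedPoint R := fun x => by
    rw [mem_basicOpen_toGlobal, not_not]
    constructor
    · intro h
      refine PrimeSpectrum.ext (((maximalIdeal.isMaximal R).eq_of_le (π x).isPrime.ne_top ?_).symm)
      rw [hϖ.maximalIdeal_eq, Ideal.span_le, Set.singleton_subset_iff]
      exact h
    · intro h
      rw [h]
      exact hϖ.not_isUnit
  have hov : overV π (maximalIdeal R) = {x | x ∉ X.basicOpen p} := by
    ext x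
    rw [Set.mem_ofPred_eq, hF]
    change (maximalIdeal R : Set R) ⊆ (π x).asIdeal ↔ _
    refine ⟨fun h => PrimeSpectrum.ext ((maximalIdeal.isMaximal R).eq_of_le (π x).isPrime.ne_top h).symm,
      fun h => by rw [h]; exact subset_rfl⟩
  have hprime : ∀ x : X, x ∉ X.basicOpen p →
      (Ideal.span {X.presheaf.germ ⊤ x trivial p}).IsPrime := fun x hx =>
    eqn_prime hϖ π x ((hF x).1 hx)
  choose η hη hηx hηmax using fun x : X => fun hx : x ∉ X.basicOpen p =>
    exists_maximal_generalisation p x hx (hprime x hx)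
  let F : Set X := {x | x ∉ X.basicOpen p}
  have hFc : IsClosed F := (X.basicOpen p).2.isClosed_compl
  have hηconst : ∀ x y (hx : x ∉ X.basicOpen p) (hy : y ∉ X.basicOpen p), x ⤳ y →
      η x hx = η y hy := fun x y hx hy hxy => by
    have h1 := hηmax y hy (η x hx) (hη x hx) ((hηx x hx).trans hxy)
    have h2 := hηmax x hx (η y hy) (hη y hy) (h1.trans (hηx x hx))
    exact (h2.antisymm h1).eq
  have : IsLocallyNoetherian X := LocallyOfFiniteType.isLocallyNoetherian π
  have : CompactSpace X := QuasiCompact.compactSpace_of_compactSpace π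
  have : IsNoetherian X := {}
  obtain ⟨T, hTf, hTcl, hTirr, hFT⟩ :=
    NoetherianSpace.exists_finite_set_isClosed_irreducible (α := X) hFc
  let Z : X → Set X := fun e => {x | ∃ hx : x ∉ X.basicOpen p, η x hx = e}
  have hgp : ∀ t ∈ T, ∃ e, t ⊆ Z e ∧ e ∈ Z e := fun t ht => by
    have htF : t ⊆ F := fun z hz => hFT ▸ Set.mem_sUnion_of_mem hz ht
    have hgt : IsGenericPoint (hTirr t ht).genericPoint t :=
      (hTirr t ht).isGenericPoint_genericPoint (hTcl t ht)
    have hgF : (hTirr t ht).genericPoint ∉ X.basicOpen p := htF hgt.mem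
    refine ⟨η _ hgF, fun x hx => ⟨htF hx, (hηconst _ _ hgF (htF hx) (hgt.specializes hx)).symm⟩,
      hη _ hgF, hηconst _ _ (hη _ hgF) hgF (hηx _ hgF)⟩
  choose ec hec hece using fun t : T => hgp t.1 t.2
  have hmem : ∀ x ∈ F, ∃ t : T, x ∈ (t : Set X) := fun x hx => by
    rw [hFT] at hx
    obtain ⟨t, ht, hxt⟩ := hx
    exact ⟨⟨t, ht⟩, hxt⟩
  let E := Set.range ec
  have : Finite T := hTf.to_subtype
  have : Finite E := (Set.finite_range ec).to_subtype
  have hZc : ∀ e : E, IsClosed (Z e) ∧ IsClosed (F \ Z e) := fun e => by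
    have h1 : Z e.1 = ⋃ t : {t : T // ec t = e.1}, (t.1 : Set X) := by
      refine Set.Subset.antisymm (fun x hx => ?_) (Set.iUnion_subset fun t => by have := hec t.1; rwa [t.2] at this)
      obtain ⟨t, ht⟩ := hmem x hx.1
      obtain ⟨h, h'⟩ := hec t ht
      exact Set.mem_iUnion.2 ⟨⟨t, h'.symm.trans hx.2⟩, ht⟩
    have h2 : F \ Z e.1 = ⋃ t : {t : T // ec t ≠ e.1}, (t.1 : Set X) := by
      refine Set.Subset.antisymm (fun x hx => ?_) (Set.iUnion_subset fun t x hx => ?_)
      · obtain ⟨t, ht⟩ := hmem x hx.1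
        exact Set.mem_iUnion.2 ⟨⟨t, fun h => hx.2 (h ▸ hec t ht)⟩, ht⟩
      · obtain ⟨h, h'⟩ := hec t.1 hx
        exact ⟨h, fun ⟨_, h''⟩ => t.2 (h'.symm.trans h'')⟩
    refine ⟨h1 ▸ ?_, h2 ▸ ?_⟩
    all_goals exact isClosed_iUnion_of_finite fun t => hTcl _ t.1.2
  choose W hW hWZ using fun e : E => exists_clopen_of_proper Groth.CohFin.projFinite (maximalIdeal R) π
    (Z e) (F \ Z e) (hZc e).1 (hZc e).2 (Set.inter_sdiff_self _ _)
    (by rw [hov]; exact Set.union_sdiff_cancel fun x hx => hx.1)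
  rw [hov] at hWZ
  have hjac : maximalIdeal R ≤ Ideal.jacobson ⊥ := HenselianRing.jac
  have hdisj : ∀ a b : E, a ≠ b → W a ∩ W b = ∅ := fun a b hab =>
    eq_empty_of_inter_overV π hjac ((hW a).1.inter (hW b).1) (by
      rw [hov, Set.eq_empty_iff_forall_notMem]
      rintro x ⟨⟨ha, hb⟩, hx⟩
      obtain ⟨_, h1⟩ := (hWZ a).le ⟨ha, hx⟩
      obtain ⟨_, h2⟩ := (hWZ b).le ⟨hb, hx⟩
      exact hab (Subtype.ext (h1.symm.trans h2)))
  let O : E → X.Opens := fun e => ⟨W e, (hW e).2⟩
  have hcov : (⊤ : X.Opens) ≤ iSup O := fun x _ => by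
    by_contra hx
    refine Set.eq_empty_iff_forall_notMem.1 (eq_empty_of_inter_overV π hjac
      (iSup O).2.isClosed_compl ?_) x hx
    rw [hov, Set.eq_empty_iff_forall_notMem]
    rintro y ⟨hy, hyF⟩
    obtain ⟨t, ht⟩ := hmem y hyF
    exact hy (Opens.mem_iSup.2 ⟨⟨ec t, t, rfl⟩, ((hWZ ⟨ec t, t, rfl⟩).ge (hec t ht)).1⟩)
  have hgen : ∀ e : E, ∃ s : Γ(L, O e), Gen L (O e) s := fun e => by
    obtain ⟨t, ht⟩ := e.2
    have he : e.1 ∈ Z e.1 := ht ▸ hece t
    refine exists_gen_of_irreducible hL p (fun x => eqn_regular hϖ π x) e₀ he₀ (O e)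
      (fun x _ => hprime x) e.1 ((hWZ e).ge he).1 he.1 fun x hx hxp => ?_
    obtain ⟨h, h'⟩ := (hWZ e).le ⟨hx, hxp⟩
    exact h' ▸ hηx x h
  choose s hs using hgen
  obtain ⟨σ, hσ, -⟩ := res_glue (M := L) O (fun _ => le_top) hcov s fun a b => by
    rcases eq_or_ne a b with rfl | hab
    · rfl
    · refine res_ext (fun i : Empty => i.elim) (fun i => i.elim) ?_ fun i => i.elim
      intro x hx
      exact (Set.eq_empty_iff_forall_notMem.1 (hdisj a b hab) x hx).elim
  rw [nonempty_iso_structure_iff]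
  exact ⟨σ, Gen.of_cover O (fun _ => le_top) hcov fun e => (hσ e).symm ▸ hs e⟩

end Groth.PicSmooth
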