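import Groth.Agent.PicSmooth.Basic
import Groth.Agent.PicSmooth.Trivial
import Groth.Agent.PicSmooth.Dvr
import Groth.Agent.Limits.DVRCriteria
import Mathlib.AlgebraicGeometry.PullbackCarrier

/-!
# The locus where an invertible class vanishes in the relative Picard scheme
-/

set_option autoImplicit false
universe u

open CategoryTheory Limits AlgebraicGeometry TopologicalSpace IsLocalRing

noncomputable section

namespace Groth.PicSmooth

open Groth.Abvar.PicCalc Groth.Limits
open scoped Groth.Abvar.PicCalc

variable {X S : Scheme.{u}} (f : X ⟶ S)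

theorem isPullback_XTmap {T T' : Over S} (g : T' ⟶ T) :
    IsPullback (PicF.XTmap f g) (PicF.XTproj f T') (PicF.XTproj f T) g.left := by
  refine IsPullback.of_right ?_ (pullback.lift_snd _ _ _) (IsPullback.of_hasPullback f T.hom)
  simp only [PicF.XTmap, pullback.lift_fst, Category.comp_id, Over.w g]
  exact IsPullback.of_hasPullback f T'.hom

/-- The fraction field of a discrete valuation ring is the localisation at a uniformiser. -/
theorem isLocalization_away {B : Type u} [CommRing B] [IsDomain B] [IsDiscreteValuationRing B]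
    {ϖ : B} (hϖ : Irreducible ϖ) (K : Type u) [Field K] [Algebra B K] [IsFractionRing B K] :
    IsLocalization.Away ϖ K := by
  have hinj := IsFractionRing.injective B K
  refine { map_units := ?_, surj := fun z => ?_, exists_of_eq := fun h => ⟨1, by rw [hinj h]⟩ }
  · rintro ⟨_, n, rfl⟩
    exact (isUnit_iff_ne_zero.2 fun h => pow_ne_zero n hϖ.ne_zero (hinj (h.trans (map_zero _).symm)))
  · obtain ⟨a, b, hb, rfl⟩ := IsFractionRing.div_surjective (A := B) z
    obtain ⟨n, w, rfl⟩ := IsDiscreteValuationRing.eq_unit_mul_pow_irreducible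
      (nonZeroDivisors.ne_zero hb) hϖ
    refine ⟨⟨a * ↑w⁻¹, ϖ ^ n, n, rfl⟩, ?_⟩
    have h0 : algebraMap B K (↑w * ϖ ^ n) ≠ 0 := fun h =>
      nonZeroDivisors.ne_zero hb (hinj (h.trans (map_zero _).symm))
    dsimp only
    have hw : algebraMap B K ↑w * algebraMap B K ↑w⁻¹ = 1 := by
      rw [← map_mul, Units.mul_inv, map_one]
    rw [div_mul_eq_mul_div, div_eq_iff h0, map_mul, map_mul]
    linear_combination (-(algebraMap B K a * algebraMap B K (ϖ ^ n))) * hw

variable {P : Over S} (φ : ∀ T : Over S, PicF.Cl (PicF.XT f T) → (T ⟶ P))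

/-- The image of the class `N` agrees with that of the trivial class at `w`. -/
def Agree (T : Over S) (N : PicLoc.PicSet (PicF.XT f T)) (w : T.left) : Prop :=
  T.left.fromSpecResidueField w ≫ (φ T N.1).left =
    T.left.fromSpecResidueField w ≫ (φ T (1 : PicLoc.PicSet (PicF.XT f T)).1).left

variable {φ} (hP : PicRel.IsRelPic f P φ)

include hP in
theorem phi_natural_left {T T' : Over S} (g : T' ⟶ T) (a : PicLoc.PicSet (PicF.XT f T)) :
    (φ T' (pull (PicF.XTmap f g) a).1).left = g.left ≫ (φ T a.1).left :=
  congrArg (fun h : T' ⟶ P => h.left) (phi_natural f hP g a)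

include hP in
theorem agree_pullback {T T' : Over S} (u : T' ⟶ T) (N : PicLoc.PicSet (PicF.XT f T))
    (w : T'.left) :
    Agree f φ T' (pull (PicF.XTmap f u) N) w ↔ Agree f φ T N (u.left w) := by
  have := epi_spec_field (u.left.residueFieldMap w)
  have e : ∀ p : T.left ⟶ P.left, T'.left.fromSpecResidueField w ≫ u.left ≫ p =
      Spec.map (u.left.residueFieldMap w) ≫ T.left.fromSpecResidueField (u.left w) ≫ p := fun p => by
    rw [← Category.assoc, ← Category.assoc]
    exact congrArg (· ≫ p) (Scheme.Hom.SpecMap_residueFieldMap_fromSpecResidueField u.left w).symm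
  unfold Agree
  rw [phi_natural_left f hP, show (1 : PicLoc.PicSet (PicF.XT f T')) =
    pull (PicF.XTmap f u) 1 from (map_one _).symm, phi_natural_left f hP, e, e, cancel_epi]

include hP in
/-- Agreement of two classes at a point is agreement of their quotient with the trivial class. -/
theorem eq_iff_agree (T : Over S) (a b : PicLoc.PicSet (PicF.XT f T)) (w : T.left) :
    T.left.fromSpecResidueField w ≫ (φ T a.1).left = T.left.fromSpecResidueField w ≫ (φ T b.1).left ↔
      Agree f φ T (a * b⁻¹) w := by
  let h := T.left.fromSpecResidueField w ≫ T.hom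
  let v : Over.mk h ⟶ T := Over.homMk (T.left.fromSpecResidueField w) rfl
  have e : ∀ c d : PicLoc.PicSet (PicF.XT f T),
      (T.left.fromSpecResidueField w ≫ (φ T c.1).left = T.left.fromSpecResidueField w ≫ (φ T d.1).left) ↔
        φ _ (pull (PicF.XTmap f v) c).1 = φ _ (pull (PicF.XTmap f v) d).1 := by
    intro c d
    refine ⟨fun hcd => Over.OverMorphism.ext ?_, fun hcd => ?_⟩
    · rw [phi_natural_left f hP, phi_natural_left f hP]
      exact hcd
    · have := congrArg (fun h : _ ⟶ P => h.left) hcd
      simp only [phi_natural_left f hP] at this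
      exact this
  rw [Agree, e, e, map_mul, map_inv, map_one]
  exact phi_eq_iff (K := T.left.residueField w) f hP h _ _

variable [IsProper f] [Smooth f]

/-- On a smooth proper family over a henselian discrete valuation ring a class trivial on the
generic fibre has trivial image. -/
theorem pull_eq_one {B : Type u} [CommRing B] [IsDomain B] [IsDiscreteValuationRing B]
    [HenselianRing B (maximalIdeal B)] (hB : Spec (CommRingCat.of B) ⟶ S)
    (N : PicLoc.PicSet (PicF.XT f (Over.mk hB)))
    (q : Over.mk (Spec.map (CommRingCat.ofHom (algebraMap B (FractionRing B))) ≫ hB) ⟶ Over.mk hB)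
    (hq : q.left = Spec.map (CommRingCat.ofHom (algebraMap B (FractionRing B))))
    (hN : pull (PicF.XTmap f q) N = 1) : N = 1 := by
  obtain ⟨ϖ, hϖ⟩ := IsDiscreteValuationRing.exists_irreducible B
  have := isLocalization_away hϖ (FractionRing B)
  have : IsOpenImmersion q.left := by rw [hq]; exact IsOpenImmersion.of_isLocalization ϖ
  let π := PicF.XTproj f (Over.mk hB)
  have : IsProper π := inferInstanceAs (IsProper (pullback.snd f hB))
  have : Smooth π := inferInstanceAs (Smooth (pullback.snd f hB))
  have sq := isPullback_XTmap f q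
  let g := PicF.XTmap f q
  have : IsOpenImmersion g := MorphismProperty.of_isPullback sq.flip ‹_›
  let U : (PicF.XT f (Over.mk hB)).Opens :=
    Scheme.basicOpen (X := PicF.XT f (Over.mk hB)) (eqn π ϖ)
  have hU : Set.range g = (U : Set _) := by
    have h1 : Set.range g = π ⁻¹' Set.range q.left := by
      change Set.range (PicF.XTmap f q) = _
      rw [← sq.isoPullback_hom_fst, Scheme.Hom.comp_base, TopCat.coe_comp, Set.range_comp,
        Set.range_eq_univ.2 sq.isoPullback.hom.surjective, Set.image_univ, Scheme.Pullback.range_fst]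
    rw [h1, hq]
    refine (congrArg (π ⁻¹' ·) (PrimeSpectrum.localization_away_comap_range (FractionRing B) ϖ)).trans ?_
    ext x
    exact (PrimeSpectrum.mem_basicOpen _ _).trans
      (Groth.HensPair.mem_basicOpen_toGlobal π ϖ x).symm
  let e := IsOpenImmersion.isoOfRangeEq g U.ι (by rw [hU, Scheme.Opens.range_ι])
  have hU1 : pull U.ι N = 1 := by
    have h1 : pull e.hom (pull U.ι N) = 1 := by
      rw [← pull_comp, IsOpenImmersion.isoOfRangeEq_hom_fac]
      exact hN
    have h2 := congrArg (pull e.inv) h1
    rwa [← pull_comp, e.inv_hom_id, pull_id, map_one] at h2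
  obtain ⟨L, hL, rfl⟩ := PicGrp.exists_eq_cls N
  rw [pull_cls, ← Abvar.PicCalc.nonempty_iso_structure_iff] at hU1
  obtain ⟨i⟩ := hU1
  obtain ⟨e₀, he₀⟩ := (PicAux.nonempty_restrict_iso_iff (M := L) U).1
    ⟨(Scheme.Modules.restrictFunctorIsoPullback U.ι).app L ≪≫ i⟩
  exact (Abvar.PicCalc.nonempty_iso_structure_iff hL).1 (trivial_of_generic π hL hϖ e₀ he₀)

include hP in
/-- The agreement locus is stable under specialization on a locally Noetherian base. -/
theorem agree_specializes (T : Over S) [IsLocallyNoetherian T.left]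
    (N : PicLoc.PicSet (PicF.XT f T)) {w₁ w₀ : T.left} (hsp : w₁ ⤳ w₀) (hw : Agree f φ T N w₁) :
    Agree f φ T N w₀ := by
  rcases eq_or_ne w₀ w₁ with rfl | hne
  · exact hw
  obtain ⟨A, _, _, _, e, _, m, hm, hme⟩ := exists_dvr_square (𝟙 T.left) w₁ w₀ hsp hne
  rw [Category.comp_id] at hme
  let h := (genericPointMap A ≫ m) ≫ T.hom
  let g : Over.mk h ⟶ T := Over.homMk (genericPointMap A ≫ m) rfl
  have hg : φ _ (pull (PicF.XTmap f g) N).1 = φ _ (1 : PicLoc.PicSet (PicF.XT f (Over.mk h))).1 := by
    refine Over.OverMorphism.ext ?_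
    rw [show (1 : PicLoc.PicSet (PicF.XT f (Over.mk h))) = pull (PicF.XTmap f g) 1 from
      (map_one _).symm, phi_natural_left f hP, phi_natural_left f hP]
    change (genericPointMap A ≫ m) ≫ _ = (genericPointMap A ≫ m) ≫ _
    rw [hme, Category.assoc, Category.assoc]
    exact congrArg (Spec.map e ≫ ·) hw
  obtain ⟨L, _, ψ, hψ, hL⟩ := exists_pull_eq f hP h _ _ hg
  obtain ⟨B, _, _, _, _, ι, χ, hι, hcomm⟩ := exists_henselian_ext A L ψ.hom hψ
  let hB := Spec.map (CommRingCat.ofHom ι) ≫ m ≫ T.hom
  let b : Over.mk hB ⟶ T := Over.homMk (Spec.map (CommRingCat.ofHom ι) ≫ m) (Category.assoc _ _ _)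
  let q : Over.mk (Spec.map (CommRingCat.ofHom (algebraMap B (FractionRing B))) ≫ hB) ⟶ Over.mk hB :=
    Over.homMk (Spec.map (CommRingCat.ofHom (algebraMap B (FractionRing B)))) rfl
  have hsquare : Spec.map (CommRingCat.ofHom (algebraMap B (FractionRing B))) ≫
      Spec.map (CommRingCat.ofHom ι) =
        Spec.map (CommRingCat.ofHom χ) ≫ Spec.map ψ ≫ genericPointMap A := by
    rw [genericPointMap, ← Spec.map_comp, ← Spec.map_comp, ← Spec.map_comp]
    exact congrArg (fun r => Spec.map (CommRingCat.ofHom r)) hcomm
  let k : Over.mk (Spec.map (CommRingCat.ofHom (algebraMap B (FractionRing B))) ≫ hB) ⟶ extPt h ψ :=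
    Over.homMk (Spec.map (CommRingCat.ofHom χ)) (by
      change Spec.map (CommRingCat.ofHom χ) ≫ Spec.map ψ ≫ (genericPointMap A ≫ m) ≫ T.hom =
        Spec.map (CommRingCat.ofHom (algebraMap B (FractionRing B))) ≫
          Spec.map (CommRingCat.ofHom ι) ≫ m ≫ T.hom
      rw [Category.assoc, reassoc_of% hsquare])
  have hkq : q ≫ b = k ≫ extHom h ψ ≫ g := by
    refine Over.OverMorphism.ext ?_
    change Spec.map (CommRingCat.ofHom (algebraMap B (FractionRing B))) ≫
      Spec.map (CommRingCat.ofHom ι) ≫ m =
        Spec.map (CommRingCat.ofHom χ) ≫ Spec.map ψ ≫ genericPointMap A ≫ m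
    rw [reassoc_of% hsquare]
  have h1 : pull (PicF.XTmap f b) N = 1 := by
    refine pull_eq_one f hB _ q rfl ?_
    rw [← pull_comp, XTmap_comp, hkq, ← XTmap_comp, ← XTmap_comp, pull_comp, pull_comp, hL,
      map_one, map_one]
  have h2 : Agree f φ (Over.mk hB) (pull (PicF.XTmap f b) N) (closedPoint B) := by rw [h1]; rfl
  rw [agree_pullback f hP] at h2
  have hb : b.left (closedPoint B) = w₀ := by
    change (Spec.map (CommRingCat.ofHom ι) ≫ m) (closedPoint B) = w₀
    rw [Scheme.Hom.comp_apply, ← hm]
    exact congrArg m (comap_closedPoint ι)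
  rwa [hb] at h2

include hP in
/-- The agreement locus is closed on a Noetherian base. -/
theorem isClosed_agree_of_isNoetherian (T : Over S) [IsNoetherian T.left]
    (N : PicLoc.PicSet (PicF.XT f T)) : IsClosed {w | Agree f φ T N w} := by
  let a := φ T N.1
  let b := φ T (1 : PicLoc.PicSet (PicF.XT f T)).1
  let l := pullback.lift (f := P.hom) (g := P.hom) a.left b.left
    ((Over.w a).trans (Over.w b).symm)
  let i := pullback.fst l (pullback.diagonal P.hom)
  have : IsImmersion i := MorphismProperty.pullback_fst _ _ inferInstance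
  have : NoetherianSpace ↥(pullback l (pullback.diagonal P.hom)) :=
    i.isEmbedding.isInducing.noetherianSpace
  have : QuasiCompact i := ⟨fun U _ _ => NoetherianSpace.isCompact _⟩
  have hrange : Set.range i = {w | Agree f φ T N w} := by
    ext w
    constructor
    · rintro ⟨z, rfl⟩
      change _ ≫ a.left = _ ≫ b.left
      have := epi_spec_field (i.residueFieldMap z)
      rw [← cancel_epi (Spec.map (i.residueFieldMap z)), ← Category.assoc, ← Category.assoc]
      refine (congrArg (· ≫ a.left)
        (Scheme.Hom.SpecMap_residueFieldMap_fromSpecResidueField i z)).trans (Eq.trans ?_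
        (congrArg (· ≫ b.left) (Scheme.Hom.SpecMap_residueFieldMap_fromSpecResidueField i z)).symm)
      have h1 : i ≫ a.left = i ≫ b.left := by
        have hc := pullback.condition (f := l) (g := pullback.diagonal P.hom)
        have ha := congrArg (· ≫ pullback.fst P.hom P.hom) hc
        have hb := congrArg (· ≫ pullback.snd P.hom P.hom) hc
        simp only [l, Category.assoc, pullback.lift_fst, pullback.lift_snd, pullback.diagonal_fst,
          pullback.diagonal_snd, Category.comp_id] at ha hb
        exact ha.trans hb.symm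
      rw [Category.assoc, Category.assoc]
      exact congrArg (_ ≫ ·) h1
    · intro hw
      let s := pullback.lift (f := l) (g := pullback.diagonal P.hom)
        (T.left.fromSpecResidueField w) (T.left.fromSpecResidueField w ≫ a.left) (by
          apply pullback.hom_ext
          · simp only [l, Category.assoc, pullback.diagonal_fst, Category.comp_id]
            exact congrArg (T.left.fromSpecResidueField w ≫ ·) (pullback.lift_fst _ _ _)
          · simp only [Category.assoc, pullback.diagonal_snd, Category.comp_id]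
            refine (congrArg (T.left.fromSpecResidueField w ≫ ·) (pullback.lift_snd _ _ _)).trans ?_
            exact hw.symm)
      refine ⟨s (closedPoint _), ?_⟩
      rw [← Scheme.Hom.comp_apply, pullback.lift_fst, Scheme.fromSpecResidueField_apply]
  rw [← hrange]
  refine isClosed_range_of_specializes i fun x y hxy => ?_
  have hx : Agree f φ T N (i x) := hrange.le ⟨x, rfl⟩
  exact hrange.ge (agree_specializes f hP T N hxy hx)

end Groth.PicSmooth
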