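import Groth.Agent.Abvar.PicCalc
import Groth.Prelude.Def_PicRel2
import Mathlib.RingTheory.Unramified.LocalStructure
import Mathlib.AlgebraicGeometry.Morphisms.FormallyUnramified
import Mathlib.AlgebraicGeometry.Morphisms.QuasiFinite
import Mathlib.AlgebraicGeometry.Morphisms.Etale
import Mathlib.AlgebraicGeometry.Morphisms.Flat

/-!
# Field-valued points of a scheme representing the etale relative Picard functor
-/

set_option autoImplicit false
universe u

open CategoryTheory Limits AlgebraicGeometry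

noncomputable section

namespace Groth.PicSmooth

open Groth.Abvar.PicCalc
open scoped Groth.Abvar.PicCalc

/-- `Spec` of a field extension is an epimorphism of schemes. -/
theorem epi_spec_field {K L : Type u} [Field K] [Field L] (φ : CommRingCat.of K ⟶ CommRingCat.of L) :
    Epi (Spec.map φ) := by
  have : Surjective (Spec.map φ) := by
    constructor
    intro x
    exact ⟨IsLocalRing.closedPoint L, Subsingleton.elim (α := PrimeSpectrum K) _ _⟩
  have : Flat (Spec.map φ) := by
    rw [HasRingHomProperty.Spec_iff (P := @Flat)]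
    algebraize [φ.hom]
    exact (inferInstance : Module.Flat K L)
  exact Flat.epi_of_flat_of_surjective _

/-- Formally unramified morphisms locally of finite type are locally quasi-finite. -/
theorem lqf_of_unramified {X Y : Scheme.{u}} (f : X ⟶ Y) [FormallyUnramified f]
    [LocallyOfFiniteType f] : LocallyQuasiFinite f := by
  refine ⟨fun {U} hU {V} hV e => ?_⟩
  have h₁ := f.formallyUnramified_appLE hU hV e
  have h₂ := LocallyOfFiniteType.finiteType_appLE f hU hV e
  letI := (f.appLE U V e).hom.toAlgebra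
  have : Algebra.FormallyUnramified Γ(Y, U) Γ(X, V) := h₁
  have : Algebra.FiniteType Γ(Y, U) Γ(X, V) := h₂
  exact (inferInstance : Algebra.QuasiFinite Γ(Y, U) Γ(X, V))

/-- The residue fields of a scheme etale over a field are finite extensions. -/
theorem exists_finite_point {K : Type u} [Field K] {U : Scheme.{u}}
    (p : U ⟶ Spec (CommRingCat.of K)) [Etale p] (z : U) :
    ∃ (L : Type u) (_ : Field L) (ψ : CommRingCat.of K ⟶ CommRingCat.of L) (χ : Spec (CommRingCat.of L) ⟶ U),
      ψ.hom.Finite ∧ χ ≫ p = Spec.map ψ := by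
  obtain ⟨_, ⟨V₀, hV, rfl⟩, hzV, -⟩ :=
    U.isBasis_affineOpens.exists_subset_of_mem_open (Set.mem_univ z) isOpen_univ
  let V : U.Opens := V₀
  have : IsAffine (V : Scheme.{u}) := hV
  have : LocallyQuasiFinite (V.ι ≫ p) := lqf_of_unramified _
  have : IsFinite (V.ι ≫ p) := IsFinite.of_locallyQuasiFinite _
  have : DiscreteTopology (V : Scheme.{u}) := by
    have : IsLocallyArtinian (V : Scheme.{u}) := .of_locallyQuasiFinite (V.ι ≫ p)
    infer_instance
  let w : (V : Scheme.{u}) := ⟨z, hzV⟩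
  have : IsClosedImmersion ((V : Scheme.{u}).fromSpecResidueField w) :=
    .of_isPreimmersion _ (isClosed_discrete _)
  let q := (V : Scheme.{u}).fromSpecResidueField w ≫ V.ι ≫ p
  have hfin : IsFinite q := inferInstance
  refine ⟨(V : Scheme.{u}).residueField w, inferInstance, Spec.preimage q,
    (V : Scheme.{u}).fromSpecResidueField w ≫ V.ι, ?_, ?_⟩
  · rw [← IsFinite.SpecMap_iff, Spec.map_preimage]
    exact hfin
  · rw [Spec.map_preimage, Category.assoc]

variable {X S : Scheme.{u}} (f : X ⟶ S)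

/-- The object `Spec L` over `S` obtained from `h : Spec K ⟶ S` and `K ⟶ L`. -/
abbrev extPt {R L : Type u} [CommRing R] [CommRing L] (h : Spec (CommRingCat.of R) ⟶ S)
    (ψ : CommRingCat.of R ⟶ CommRingCat.of L) : Over S :=
  Over.mk (Spec.map ψ ≫ h)

/-- The structure morphism `Spec L ⟶ Spec K` over `S`. -/
abbrev extHom {R L : Type u} [CommRing R] [CommRing L] (h : Spec (CommRingCat.of R) ⟶ S)
    (ψ : CommRingCat.of R ⟶ CommRingCat.of L) : extPt h ψ ⟶ Over.mk h :=
  Over.homMk (Spec.map ψ) rfl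

theorem XTmap_fst {T T' : Over S} (g : T' ⟶ T) :
    PicF.XTmap f g ≫ pullback.fst f T.hom = pullback.fst f T'.hom :=
  (pullback.lift_fst _ _ _).trans (Category.comp_id _)

theorem XTmap_snd {T T' : Over S} (g : T' ⟶ T) :
    PicF.XTmap f g ≫ pullback.snd f T.hom = pullback.snd f T'.hom ≫ g.left :=
  pullback.lift_snd _ _ _

theorem XTmap_comp {T T' T'' : Over S} (g : T'' ⟶ T') (g' : T' ⟶ T) :
    PicF.XTmap f g ≫ PicF.XTmap f g' = PicF.XTmap f (g ≫ g') := by
  apply pullback.hom_ext
  · simp only [Category.assoc, XTmap_fst]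
  · rw [Category.assoc, XTmap_snd, ← Category.assoc, XTmap_snd, XTmap_snd, Category.assoc, Over.comp_left]

theorem XTmap_id (T : Over S) : PicF.XTmap f (𝟙 T) = 𝟙 _ := by
  apply pullback.hom_ext <;> simp [PicF.XTmap, pullback.map]

variable {P : Over S} {φ : ∀ T : Over S, PicF.Cl (PicF.XT f T) → (T ⟶ P)}
  (hP : PicRel.IsRelPic f P φ)

include hP in
theorem phi_natural {T T' : Over S} (g : T' ⟶ T) (a : PicLoc.PicSet (PicF.XT f T)) :
    φ T' (pull (PicF.XTmap f g) a).1 = g ≫ φ T a.1 := hP.natural T T' g a.1 a.2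

include hP in
/-- Classes with the same image agree after a finite extension of the field. -/
theorem exists_pull_eq {K : Type u} [Field K] (h : Spec (CommRingCat.of K) ⟶ S)
    (a b : PicLoc.PicSet (PicF.XT f (Over.mk h))) (hab : φ _ a.1 = φ _ b.1) :
    ∃ (L : Type u) (_ : Field L) (ψ : CommRingCat.of K ⟶ CommRingCat.of L), ψ.hom.Finite ∧
      pull (PicF.XTmap f (extHom h ψ)) a = pull (PicF.XTmap f (extHom h ψ)) b := by
  obtain ⟨ι, U, hU, hcl⟩ := hP.locallyInjective _ _ _ a.2 b.2 hab
  obtain ⟨i, z, -⟩ := hU (IsLocalRing.closedPoint K)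
  obtain ⟨L, _, ψ, χ, hψ, hχ⟩ := exists_finite_point (U i).hom z
  refine ⟨L, inferInstance, ψ, hψ, ?_⟩
  let v : extPt h ψ ⟶ PicRel.ovr (Over.mk h) (U i) :=
    Over.homMk χ (by
      change χ ≫ (U i).hom ≫ h = Spec.map ψ ≫ h
      rw [← Category.assoc, hχ])
  have hv : v ≫ PicRel.ovrHom (Over.mk h) (U i) = extHom h ψ := Over.OverMorphism.ext hχ
  rw [← hv, ← XTmap_comp, pull_comp, pull_comp]
  congr 1
  exact Subtype.ext (hcl i)

include hP in
/-- Field-valued points come from classes after a finite extension of the field. -/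
theorem exists_phi_eq {K : Type u} [Field K] (h : Spec (CommRingCat.of K) ⟶ S)
    (g : Over.mk h ⟶ P) :
    ∃ (L : Type u) (_ : Field L) (ψ : CommRingCat.of K ⟶ CommRingCat.of L), ψ.hom.Finite ∧
      ∃ a : PicLoc.PicSet (PicF.XT f (extPt h ψ)), φ _ a.1 = extHom h ψ ≫ g := by
  obtain ⟨ι, U, hU, hcl⟩ := hP.locallySurjective _ g
  obtain ⟨i, z, -⟩ := hU (IsLocalRing.closedPoint K)
  obtain ⟨L, _, ψ, χ, hψ, hχ⟩ := exists_finite_point (U i).hom z
  obtain ⟨c, hc, hcφ⟩ := hcl i
  let v : extPt h ψ ⟶ PicRel.ovr (Over.mk h) (U i) :=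
    Over.homMk χ (by
      change χ ≫ (U i).hom ≫ h = Spec.map ψ ≫ h
      rw [← Category.assoc, hχ])
  have hv : v ≫ PicRel.ovrHom (Over.mk h) (U i) = extHom h ψ := Over.OverMorphism.ext hχ
  refine ⟨L, inferInstance, ψ, hψ, pull (PicF.XTmap f v) ⟨c, hc⟩, ?_⟩
  rw [phi_natural f hP, hcφ, ← Category.assoc, hv]

include hP in
/-- Agreement of two classes at a field-valued point only depends on their quotient. -/
theorem phi_eq_iff {K : Type u} [Field K] (h : Spec (CommRingCat.of K) ⟶ S)
    (a b : PicLoc.PicSet (PicF.XT f (Over.mk h))) :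
    φ _ a.1 = φ _ b.1 ↔ φ _ (a * b⁻¹).1 = φ _ (1 : PicLoc.PicSet (PicF.XT f (Over.mk h))).1 := by
  have key : ∀ c d : PicLoc.PicSet (PicF.XT f (Over.mk h)),
      φ _ c.1 = φ _ d.1 ↔ ∃ (L : Type u) (_ : Field L) (ψ : CommRingCat.of K ⟶ CommRingCat.of L),
        pull (PicF.XTmap f (extHom h ψ)) c = pull (PicF.XTmap f (extHom h ψ)) d := by
    intro c d
    refine ⟨fun hcd => ?_, ?_⟩
    · obtain ⟨L, _, ψ, -, hψ⟩ := exists_pull_eq f hP h c d hcd
      exact ⟨L, inferInstance, ψ, hψ⟩
    · rintro ⟨L, _, ψ, hψ⟩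
      have h1 := congrArg (fun x => φ _ x.1) hψ
      simp only [phi_natural f hP] at h1
      have : Epi (Spec.map ψ) := epi_spec_field ψ
      have : Epi (extHom h ψ).left := this
      exact (cancel_epi (extHom h ψ)).mp h1
  rw [key, key]
  simp only [map_mul, map_inv, map_one, mul_inv_eq_one]

end Groth.PicSmooth
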