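import Groth.Agent.PicSmooth.Proper
import Groth.Prelude.Def_AbDual
import Mathlib.RingTheory.Jacobson.Ring

/-!
# Field-valued points of an fppf relative Picard scheme, and extension over valuation rings
-/

set_option autoImplicit false
universe u

open CategoryTheory Limits AlgebraicGeometry TopologicalSpace IsLocalRing

noncomputable section

namespace Groth.PicSmooth

open Groth.Abvar.PicCalc Groth.Limits
open scoped Groth.Abvar.PicCalc

/-- A nonempty scheme locally of finite type over a field has a point with values in a finite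
extension. -/
theorem exists_finite_point_lft {K : Type u} [Field K] {U : Scheme.{u}} [Nonempty U]
    (p : U ⟶ Spec (CommRingCat.of K)) [LocallyOfFiniteType p] :
    ∃ (L : Type u) (_ : Field L) (ψ : CommRingCat.of K ⟶ CommRingCat.of L) (χ : Spec (CommRingCat.of L) ⟶ U),
      ψ.hom.Finite ∧ χ ≫ p = Spec.map ψ := by
  obtain ⟨z⟩ := ‹Nonempty U›
  obtain ⟨_, ⟨V₀, hV, rfl⟩, hzV, -⟩ :=
    U.isBasis_affineOpens.exists_subset_of_mem_open (Set.mem_univ z) isOpen_univ
  let V : U.Opens := V₀
  have : CompactSpace (V : Scheme.{u}) := isCompact_iff_compactSpace.mp hV.isCompact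
  obtain ⟨w, -, hw⟩ := IsClosed.exists_closed_singleton (isClosed_univ (X := (V : Scheme.{u})))
    ⟨⟨z, hzV⟩, trivial⟩
  have : IsClosedImmersion ((V : Scheme.{u}).fromSpecResidueField w) :=
    .of_isPreimmersion _ (by rw [Scheme.range_fromSpecResidueField]; exact hw)
  let q := (V : Scheme.{u}).fromSpecResidueField w ≫ V.ι ≫ p
  have hq : LocallyOfFiniteType q := inferInstance
  rw [← Spec.map_preimage q, HasRingHomProperty.Spec_iff (P := @LocallyOfFiniteType)] at hq
  refine ⟨(V : Scheme.{u}).residueField w, inferInstance, Spec.preimage q,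
    (V : Scheme.{u}).fromSpecResidueField w ≫ V.ι, ?_, ?_⟩
  · algebraize [(Spec.preimage q).hom]
    exact finite_of_finite_type_of_isJacobsonRing K _
  · rw [Spec.map_preimage, Category.assoc]

variable {X S : Scheme.{u}} (f : X ⟶ S) [IsProper f] [Smooth f]
  {P : Over S} {φ : ∀ T : Over S, PicF.Cl (PicF.XT f T) → (T ⟶ P)}
  (hP : AbDual.IsRelPicK Scheme.fppfPrecoverage f P φ)

include hP in
omit [IsProper f] [Smooth f] in
/-- Field-valued points come from classes after a finite extension of the field. -/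
theorem exists_phi_eq_fppf {K : Type u} [Field K] (h : Spec (CommRingCat.of K) ⟶ S)
    (g : Over.mk h ⟶ P) :
    ∃ (L : Type u) (_ : Field L) (ψ : CommRingCat.of K ⟶ CommRingCat.of L), ψ.hom.Finite ∧
      ∃ a : PicLoc.PicSet (PicF.XT f (extPt h ψ)), φ _ a.1 = extHom h ψ ≫ g := by
  obtain ⟨R, hR, hcl⟩ := hP.locallySurjective _ g
  obtain ⟨ι, U, u, rfl⟩ := R.exists_eq_ofArrows
  obtain ⟨h₁, h₂⟩ := (Scheme.ofArrows_mem_precoverage_iff _).mp hR
  obtain ⟨i, z, -⟩ := h₁ (IsLocalRing.closedPoint K)
  have : Nonempty (U i) := ⟨z⟩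
  have : LocallyOfFinitePresentation (u i) := (h₂ i).2
  obtain ⟨L, _, ψ, χ, hψ, hχ⟩ := exists_finite_point_lft (u i)
  obtain ⟨c, hc, hcφ⟩ := hcl (u i) ⟨i⟩
  let v : extPt h ψ ⟶ AbDual.ovr (Over.mk h) (u i) :=
    Over.homMk χ (by
      change χ ≫ u i ≫ h = Spec.map ψ ≫ h
      rw [← Category.assoc, hχ])
  have hv : v ≫ AbDual.ovrHom (Over.mk h) (u i) = extHom h ψ := Over.OverMorphism.ext hχ
  refine ⟨L, inferInstance, ψ, hψ, pull (PicF.XTmap f v) ⟨c, hc⟩, ?_⟩
  refine (hP.natural _ _ v c hc).trans ?_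
  rw [hcφ, ← Category.assoc, hv]

include hP in
/-- Points over the fraction field of a discrete valuation ring extend. -/
theorem exists_extend_fppf {R : Type u} [CommRing R] [IsDomain R] [IsDiscreteValuationRing R]
    (b : Spec (CommRingCat.of R) ⟶ S)
    (gK : Over.mk (genericPointMap R ≫ b) ⟶ P) :
    ∃ gR : Spec (CommRingCat.of R) ⟶ P.left, gR ≫ P.hom = b ∧ genericPointMap R ≫ gR = gK.left := by
  obtain ⟨L, _, ψ, hψ, c, hc⟩ := exists_phi_eq_fppf f hP _ gK
  obtain ⟨A', _, _, _, _, _, ι, hι, hcomm⟩ := exists_dvr_ext R L ψ.hom hψ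
  let hB := Spec.map (CommRingCat.ofHom ι) ≫ b
  let q : extPt (genericPointMap R ≫ b) ψ ⟶ Over.mk hB :=
    Over.homMk (Spec.map (CommRingCat.ofHom (algebraMap A' L))) (by
      change Spec.map (CommRingCat.ofHom (algebraMap A' L)) ≫ Spec.map (CommRingCat.ofHom ι) ≫ b =
        Spec.map ψ ≫ genericPointMap R ≫ b
      rw [genericPointMap, ← Category.assoc, ← Category.assoc, ← Spec.map_comp, ← Spec.map_comp]
      exact congrArg (fun r => Spec.map (CommRingCat.ofHom r) ≫ b) hcomm)
  obtain ⟨ϖ, hϖ⟩ := IsDiscreteValuationRing.exists_irreducible A'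
  have := isLocalization_away hϖ L
  have : IsOpenImmersion q.left := IsOpenImmersion.of_isLocalization ϖ
  obtain ⟨c', hc'⟩ := exists_pull_eq_of_dvr f L hB q c
  let l₀ : Spec (CommRingCat.of A') ⟶ P.left := (φ (Over.mk hB) c'.1).left
  have hgen : q.left ≫ l₀ = Spec.map ψ ≫ gK.left := by
    have h0 := hP.natural (Over.mk hB) _ q c'.1 c'.2
    have h1 : φ (extPt (genericPointMap R ≫ b) ψ) c.1 = q ≫ φ (Over.mk hB) c'.1 := by
      rw [← h0, ← hc']
      rfl
    exact (congrArg (fun h : _ ⟶ P => h.left) (h1.symm.trans hc))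
  -- descend to `R`
  obtain ⟨_, ⟨W₀, hW, rfl⟩, hzW, -⟩ := P.left.isBasis_affineOpens.exists_subset_of_mem_open
    (Set.mem_univ (l₀ (closedPoint A'))) isOpen_univ
  let W : P.left.Opens := W₀
  have hlW : Set.range l₀ ⊆ Set.range hW.fromSpec := by
    rw [hW.range_fromSpec]
    rintro _ ⟨z, rfl⟩
    exact ((IsLocalRing.specializes_closedPoint z).map l₀.continuous).mem_open W.2 hzW
  let l₁ := IsOpenImmersion.lift hW.fromSpec l₀ hlW
  have hl₁ : l₁ ≫ hW.fromSpec = l₀ := IsOpenImmersion.lift_fac _ _ _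
  have hgW : Set.range gK.left ⊆ Set.range hW.fromSpec := by
    rintro _ ⟨z, rfl⟩
    obtain rfl : z = Spec.map ψ (closedPoint L) := Subsingleton.elim (α := PrimeSpectrum _) _ _
    rw [← Scheme.Hom.comp_apply, ← hgen, Scheme.Hom.comp_apply]
    exact hlW ⟨_, rfl⟩
  let g₁ := IsOpenImmersion.lift hW.fromSpec gK.left hgW
  have hg₁ : g₁ ≫ hW.fromSpec = gK.left := IsOpenImmersion.lift_fac _ _ _
  let α : Γ(P.left, W) ⟶ CommRingCat.of A' := Spec.preimage l₁
  let β : Γ(P.left, W) ⟶ CommRingCat.of (FractionRing R) := Spec.preimage g₁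
  have hαβ : ∀ x, algebraMap A' L (α.hom x) = ψ.hom (β.hom x) := by
    have : α ≫ CommRingCat.ofHom (algebraMap A' L) = β ≫ ψ := by
      apply Spec.map_injective
      rw [← cancel_mono hW.fromSpec, Spec.map_comp, Spec.map_comp, Category.assoc, Category.assoc,
        Spec.map_preimage, Spec.map_preimage, hl₁, hg₁]
      exact hgen
    exact fun x => congrArg (fun r : Γ(P.left, W) ⟶ CommRingCat.of L => r.hom x) this
  have hint : ∀ x, ∃ r : R, algebraMap R (FractionRing R) r = β.hom x := fun x => by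
    rcases ValuationRing.isInteger_or_isInteger R (β.hom x) with ⟨r, hr⟩ | ⟨r, hr⟩
    · exact ⟨r, hr⟩
    · by_cases h0 : β.hom x = 0
      · exact ⟨0, by rw [h0, map_zero]⟩
      have h1 : ι r * α.hom x = 1 := by
        apply IsFractionRing.injective A' L
        rw [map_mul, hαβ, map_one]
        have h2 := congrArg (fun m : R →+* L => m r) hcomm
        simp only [RingHom.comp_apply] at h2
        rw [h2, hr, ← map_mul, inv_mul_cancel₀ h0, map_one]
      have hru : IsUnit r := hι.map_nonunit r (IsUnit.of_mul_eq_one _ h1)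
      refine ⟨↑hru.unit⁻¹, ?_⟩
      rw [map_units_inv, IsUnit.unit_spec, hr, inv_inv]
  choose γ hγ using hint
  let γ' : Γ(P.left, W) →+* R :=
    { toFun := γ
      map_one' := IsFractionRing.injective R (FractionRing R) (by rw [hγ, map_one, map_one])
      map_mul' := fun x y => IsFractionRing.injective R (FractionRing R)
        (by simp only [map_mul, hγ])
      map_zero' := IsFractionRing.injective R (FractionRing R) (by rw [hγ, map_zero, map_zero])
      map_add' := fun x y => IsFractionRing.injective R (FractionRing R)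
        (by simp only [map_add, hγ]) }
  let gR := Spec.map (CommRingCat.ofHom γ') ≫ hW.fromSpec
  have hfac : genericPointMap R ≫ gR = gK.left := by
    have : CommRingCat.ofHom γ' ≫ CommRingCat.ofHom (algebraMap R (FractionRing R)) = β :=
      CommRingCat.hom_ext (RingHom.ext hγ)
    change Spec.map (CommRingCat.ofHom (algebraMap R (FractionRing R))) ≫
      Spec.map (CommRingCat.ofHom γ') ≫ hW.fromSpec = gK.left
    rw [← Category.assoc, ← Spec.map_comp, this, Spec.map_preimage, hg₁]
  refine ⟨gR, ?_, hfac⟩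
  have hι' : CommRingCat.ofHom γ' ≫ CommRingCat.ofHom ι = α := by
    refine CommRingCat.hom_ext (RingHom.ext fun x => ?_)
    apply IsFractionRing.injective A' L
    change algebraMap A' L (ι (γ x)) = algebraMap A' L (α.hom x)
    rw [hαβ, ← hγ x]
    exact congrArg (fun m : R →+* L => m (γ x)) hcomm
  -- the two maps to `S` agree after composing with the local injection `ι`
  have hS : Spec.map (CommRingCat.ofHom ι) ≫ gR ≫ P.hom = Spec.map (CommRingCat.ofHom ι) ≫ b := by
    rw [← Category.assoc, ← Category.assoc, ← Spec.map_comp, hι', Spec.map_preimage, hl₁]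
    exact Over.w (φ (Over.mk hB) c'.1)
  have hcl : (gR ≫ P.hom) (closedPoint R) = b (closedPoint R) := by
    have h1 := congrArg (fun m : Spec (CommRingCat.of A') ⟶ S => m (closedPoint A')) hS
    simp only [Scheme.Hom.comp_apply] at h1 ⊢
    have h2 : Spec.map (CommRingCat.ofHom ι) (closedPoint A') = closedPoint R := comap_closedPoint ι
    rwa [h2] at h1
  obtain ⟨_, ⟨U₀, hU, rfl⟩, hsU, -⟩ := S.isBasis_affineOpens.exists_subset_of_mem_open
    (Set.mem_univ (b (closedPoint R))) isOpen_univ
  have hr : ∀ m : Spec (CommRingCat.of R) ⟶ S, m (closedPoint R) = b (closedPoint R) →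
      Set.range m ⊆ Set.range hU.fromSpec := by
    rintro m hm _ ⟨z, rfl⟩
    rw [hU.range_fromSpec]
    exact ((IsLocalRing.specializes_closedPoint z).map m.continuous).mem_open U₀.2 (hm ▸ hsU)
  let b₁ := IsOpenImmersion.lift hU.fromSpec b (hr b rfl)
  let b₂ := IsOpenImmersion.lift hU.fromSpec (gR ≫ P.hom) (hr _ hcl)
  have key : Spec.map (CommRingCat.ofHom ι) ≫ b₁ = Spec.map (CommRingCat.ofHom ι) ≫ b₂ := by
    rw [← cancel_mono hU.fromSpec, Category.assoc, Category.assoc, IsOpenImmersion.lift_fac,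
      IsOpenImmersion.lift_fac, hS]
  have hιinj : Function.Injective ι := by
    have : Function.Injective ((algebraMap A' L).comp ι) := by
      rw [hcomm]
      exact ψ.hom.injective.comp (IsFractionRing.injective R (FractionRing R))
    exact this.of_comp (f := algebraMap A' L)
  have heq : b₁ = b₂ := by
    rw [← Spec.map_preimage b₁, ← Spec.map_preimage b₂] at key ⊢
    rw [← Spec.map_comp, ← Spec.map_comp] at key
    refine congrArg Spec.map (CommRingCat.hom_ext (RingHom.ext fun x => hιinj ?_))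
    exact congrArg (fun r : Γ(S, U₀) ⟶ CommRingCat.of A' => r.hom x) (Spec.map_injective key)
  calc gR ≫ P.hom = b₂ ≫ hU.fromSpec := (IsOpenImmersion.lift_fac _ _ _).symm
    _ = b₁ ≫ hU.fromSpec := by rw [heq]
    _ = b := IsOpenImmersion.lift_fac _ _ _

end Groth.PicSmooth
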