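import Groth.Agent.PicAux.GenLocal
import Mathlib.AlgebraicGeometry.Stalk
import Mathlib.Topology.NoetherianSpace
import Mathlib.RingTheory.Localization.Basic

/-!
# Generators of invertible modules across an irreducible divisor
-/

set_option autoImplicit false
universe u

open CategoryTheory AlgebraicGeometry Opposite TopologicalSpace

noncomputable section

namespace Groth.PicSmooth

open Groth.PicAux

/-- A divisor of a power of a prime regular element is, up to a unit, a power of that element. -/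
theorem exists_eq_unit_mul_pow {A : Type u} [CommRing A] {p : A} (hp : IsSMulRegular A p)
    (hP : (Ideal.span {p}).IsPrime) :
    ∀ (N : ℕ) (a b : A), a * b = p ^ N → ∃ (w : Aˣ) (k : ℕ), a = w * p ^ k
  | 0, a, b, h => ⟨(IsUnit.of_mul_eq_one b (by simpa using h)).unit, 0, by simp⟩
  | N + 1, a, b, h => by
    have hmem : a * b ∈ Ideal.span {p} := by
      rw [h, Ideal.mem_span_singleton, pow_succ']; exact dvd_mul_right _ _
    rcases hP.mem_or_mem hmem with ha | hb
    · obtain ⟨a', rfl⟩ := Ideal.mem_span_singleton.mp ha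
      obtain ⟨w, k, rfl⟩ := exists_eq_unit_mul_pow hp hP N a' b
        (hp (by simp only [smul_eq_mul]; rw [← mul_assoc, h, pow_succ']))
      exact ⟨w, k + 1, by rw [pow_succ']; ring⟩
    · obtain ⟨b', rfl⟩ := Ideal.mem_span_singleton.mp hb
      exact exists_eq_unit_mul_pow hp hP N a b'
        (hp (by simp only [smul_eq_mul]; rw [mul_left_comm, h, pow_succ']))

/-- Powers of a regular non-unit differing by a unit have the same exponent. -/
theorem pow_eq_of_unit_mul {A : Type u} [CommRing A] {p : A} (hp : IsSMulRegular A p)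
    (hP : ¬ IsUnit p) {i j : ℕ} {v : A} (hv : IsUnit v) (h : p ^ i = p ^ j * v) : i = j := by
  rcases lt_trichotomy i j with hlt | heq | hgt
  · obtain ⟨d, rfl⟩ := Nat.exists_eq_add_of_lt hlt
    have h1 : (1 : A) = p ^ (d + 1) * v := (hp.pow i) (by
      simp only [smul_eq_mul]; rw [mul_one, ← mul_assoc, ← pow_add, ← add_assoc]; exact h)
    refine absurd (IsUnit.of_mul_eq_one (p ^ d * v) ?_) hP
    rw [← mul_assoc, ← pow_succ', ← h1]
  · exact heq
  · obtain ⟨d, rfl⟩ := Nat.exists_eq_add_of_lt hgt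
    have h1 : p ^ (d + 1) = v := (hp.pow j) (by
      simp only [smul_eq_mul]; rw [← pow_add, ← add_assoc]; exact h)
    refine absurd ?_ hP
    rw [← h1] at hv
    exact (isUnit_pow_iff (Nat.succ_ne_zero d)).mp hv

variable {X : Scheme.{u}}

/-- The restriction of a function to the locus where `p` is invertible is injective if `p` is
regular on all local rings. -/
theorem eq_zero_of_resX_basicOpen (p : Γ(X, ⊤))
    (hreg : ∀ x : X, IsSMulRegular (X.presheaf.stalk x) (X.presheaf.germ ⊤ x trivial p))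
    {V : X.Opens} (r : Γ(X, V)) (hr : resX X (inf_le_left : V ⊓ X.basicOpen p ≤ V) r = 0) : r = 0 := by
  refine TopCat.Presheaf.section_ext X.sheaf V r 0 fun x hx => ?_
  obtain ⟨_, ⟨U, hU, rfl⟩, hxU, hUV⟩ :=
    X.isBasis_affineOpens.exists_subset_of_mem_open hx V.2
  have hUV' : U ≤ V := hUV
  let q := resX X (le_top : U ≤ ⊤) p
  have hq : X.basicOpen q ≤ V ⊓ X.basicOpen p := by
    refine le_inf ((X.basicOpen_le q).trans hUV') ?_
    exact (X.basicOpen_res p (homOfLE le_top).op).le.trans inf_le_right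
  have := hU.isLocalization_basicOpen q
  have h0 : algebraMap Γ(X, U) Γ(X, X.basicOpen q) (resX X hUV' r) = 0 := by
    change resX X (X.basicOpen_le q) (resX X hUV' r) = 0
    have h1 := congrArg (resX X hq) hr
    rw [map_zero, resX_resX] at h1
    rw [resX_resX]
    exact h1
  obtain ⟨⟨_, n, rfl⟩, hn⟩ := (IsLocalization.map_eq_zero_iff (Submonoid.powers q) _ _).1 h0
  have h2 := congrArg (X.presheaf.germ U x hxU) hn
  rw [map_mul, map_pow, map_zero] at h2
  have hgq : X.presheaf.germ U x hxU q = X.presheaf.germ ⊤ x trivial p :=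
    X.presheaf.germ_res_apply (homOfLE le_top) x hxU p
  have hgr : X.presheaf.germ U x hxU (resX X hUV' r) = X.presheaf.germ V x hx r :=
    X.presheaf.germ_res_apply (homOfLE hUV') x hxU r
  change X.presheaf.germ V x hx r = X.presheaf.germ V x hx 0
  rw [map_zero]
  refine (hreg x).pow n ?_
  simp only [smul_eq_mul, mul_zero]
  rw [← hgq, ← hgr]
  exact h2

variable {L : X.Modules}

/-- Sections of a module with a basis agreeing where `p` is invertible agree. -/
theorem gen_eq_of_res_basicOpen (p : Γ(X, ⊤))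
    (hreg : ∀ x : X, IsSMulRegular (X.presheaf.stalk x) (X.presheaf.germ ⊤ x trivial p))
    {V : X.Opens} {e : Γ(L, V)} (he : Gen L V e) (s t : Γ(L, V))
    (h : res L (inf_le_left : V ⊓ X.basicOpen p ≤ V) s = res L inf_le_left t) : s = t := by
  obtain ⟨a, ha⟩ := he.exists_coeff le_rfl s
  obtain ⟨b, hb⟩ := he.exists_coeff le_rfl t
  rw [res_self] at ha hb
  rw [ha, hb, res_smul, res_smul] at h
  have := eq_zero_of_resX_basicOpen p hreg (a - b)
    (by rw [map_sub, sub_eq_zero]; exact he.smul_inj inf_le_left h)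
  rw [ha, hb, sub_eq_zero.mp this]

/-- Near a point of the divisor `p = 0`, a basis away from the divisor is a power of `p` times a
basis. -/
theorem exists_local_gen (hL : PicF.IsInvertible L) (p : Γ(X, ⊤)) (e₀ : Γ(L, X.basicOpen p))
    (he₀ : Gen L (X.basicOpen p) e₀) (x : X) (W : X.Opens) (hxW : x ∈ W)
    (hreg : IsSMulRegular (X.presheaf.stalk x) (X.presheaf.germ ⊤ x trivial p))
    (hprime : (Ideal.span {X.presheaf.germ ⊤ x trivial p}).IsPrime) :
    ∃ (V : X.Opens) (_ : x ∈ V) (_ : V ≤ W) (g : Γ(L, V)) (k n : ℕ), Gen L V g ∧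
      resX X (le_top : V ⊓ X.basicOpen p ≤ ⊤) p ^ k •
          res L (inf_le_left : V ⊓ X.basicOpen p ≤ V) g =
        resX X (le_top : V ⊓ X.basicOpen p ≤ ⊤) p ^ n •
          res L (inf_le_right : V ⊓ X.basicOpen p ≤ X.basicOpen p) e₀ := by
  obtain ⟨V₀, e', hxV₀, he'⟩ := (isInvertible_iff_exists_gen L).1 hL x
  obtain ⟨_, ⟨V, hV, rfl⟩, hxV, hVle⟩ :=
    X.isBasis_affineOpens.exists_subset_of_mem_open (show x ∈ V₀ ⊓ W from ⟨hxV₀, hxW⟩) (V₀ ⊓ W).2
  have hV0 : V ≤ V₀ := fun y hy => (hVle hy).1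
  have hVW : V ≤ W := fun y hy => (hVle hy).2
  let e := res L hV0 e'
  have he : Gen L V e := he'.res hV0
  let q := resX X (le_top : V ≤ ⊤) p
  have hq : X.basicOpen q = V ⊓ X.basicOpen p := X.basicOpen_res p (homOfLE le_top).op
  have hDV : X.basicOpen q ≤ V := X.basicOpen_le q
  have hDp : X.basicOpen q ≤ X.basicOpen p := hq.le.trans inf_le_right
  obtain ⟨c, hcu, hc⟩ : ∃ c : Γ(X, X.basicOpen q), IsUnit c ∧ res L hDp e₀ = c • res L hDV e := by
    obtain ⟨c, hc⟩ := he.exists_coeff hDV (res L hDp e₀)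
    exact ⟨c, (he.res hDV).isUnit_of_smul (hc ▸ he₀.res hDp), hc⟩
  obtain ⟨d, hd⟩ := hcu.exists_right_inv
  have := hV.isLocalization_basicOpen q
  obtain ⟨⟨a, ⟨_, n, rfl⟩⟩, ha⟩ := IsLocalization.surj (Submonoid.powers q) c
  obtain ⟨⟨b, ⟨_, m, rfl⟩⟩, hb⟩ := IsLocalization.surj (Submonoid.powers q) d
  obtain ⟨⟨_, j, rfl⟩, hj⟩ := (IsLocalization.eq_iff_exists (Submonoid.powers q)
    Γ(X, X.basicOpen q)).1 (show algebraMap Γ(X, V) Γ(X, X.basicOpen q) (a * b) =
      algebraMap Γ(X, V) Γ(X, X.basicOpen q) (q ^ n * q ^ m) by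
    rw [map_mul, map_mul, ← ha, ← hb]
    dsimp only
    calc _ = (c * d) * (algebraMap Γ(X, V) Γ(X, X.basicOpen q) (q ^ n) *
          algebraMap Γ(X, V) Γ(X, X.basicOpen q) (q ^ m)) := by ring
      _ = _ := by rw [hd, one_mul])
  have hgq : X.presheaf.germ V x hxV q = X.presheaf.germ ⊤ x trivial p :=
    X.presheaf.germ_res_apply (homOfLE le_top) x hxV p
  have hab := congrArg (X.presheaf.germ V x hxV) hj
  simp only [map_mul, map_pow, hgq] at hab
  rw [mul_left_comm, ← pow_add, ← pow_add] at hab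
  obtain ⟨w, k, hw⟩ := exists_eq_unit_mul_pow hreg hprime (j + (n + m))
    (X.presheaf.germ V x hxV a) _ hab
  obtain ⟨V₁, hxV₁, w₁, hw₁⟩ := X.presheaf.exists_germ_eq (w : X.presheaf.stalk x)
  have hxb : x ∈ X.basicOpen w₁ := (Scheme.mem_basicOpen X w₁ x hxV₁).2 (hw₁ ▸ w.isUnit)
  obtain ⟨V₂, hxV₂, i₁, i₂, heq⟩ := X.presheaf.germ_eq x hxV
    (show x ∈ V ⊓ X.basicOpen w₁ from ⟨hxV, hxb⟩) a
    (resX X (inf_le_right.trans (X.basicOpen_le w₁) : V ⊓ X.basicOpen w₁ ≤ V₁) w₁ *
      resX X (le_top : V ⊓ X.basicOpen w₁ ≤ ⊤) p ^ k) (by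
      rw [map_mul, map_pow]
      erw [X.presheaf.germ_res_apply, X.presheaf.germ_res_apply]
      rw [hw₁]
      exact hw)
  have hV₂V : V₂ ≤ V := i₁.le
  have hV₂b : V₂ ≤ X.basicOpen w₁ := i₂.le.trans inf_le_right
  change resX X hV₂V a = resX X i₂.le (_ * _) at heq
  rw [map_mul, map_pow, resX_resX, resX_resX] at heq
  let w₂ := resX X (hV₂b.trans (X.basicOpen_le w₁)) w₁
  have hw₂ : IsUnit w₂ := by
    have := (RingedSpace.isUnit_res_basicOpen X.toRingedSpace w₁)
    have h2 := this.map (resX X hV₂b)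
    change IsUnit (resX X hV₂b (resX X (X.basicOpen_le w₁) w₁)) at h2
    rwa [resX_resX] at h2
  refine ⟨V₂, hxV₂, hV₂V.trans hVW, w₂ • res L hV₂V e, k, n, (he.res hV₂V).smul_unit hw₂, ?_⟩
  have hDle : V₂ ⊓ X.basicOpen p ≤ X.basicOpen q := hq.ge.trans' (inf_le_inf_right _ hV₂V)
  have h1 := congrArg (res L hDle) hc
  rw [res_smul, res_res, res_res] at h1
  have ha' := congrArg (resX X hDle) ha
  change resX X hDle (c * resX X hDV (q ^ n)) = resX X hDle (resX X hDV a) at ha'
  rw [map_mul, resX_resX, resX_resX, map_pow, resX_resX] at ha'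
  rw [res_smul, res_res, h1, ← mul_smul, ← mul_smul]
  congr 1
  have ha2 : resX X (inf_le_left.trans hV₂V : V₂ ⊓ X.basicOpen p ≤ V) a =
      resX X inf_le_left w₂ * resX X (le_top : V₂ ⊓ X.basicOpen p ≤ ⊤) p ^ k := by
    have := congrArg (resX X (inf_le_left : V₂ ⊓ X.basicOpen p ≤ V₂)) heq
    rw [resX_resX, map_mul, map_pow, resX_resX, resX_resX] at this
    rw [this, resX_resX]
  rw [mul_comm, ← ha2, ← ha']
  rw [mul_comm]

/-- An invertible module trivial away from an irreducible divisor `p = 0` with prime ideals in the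
local rings is trivial. -/
theorem exists_gen_of_irreducible (hL : PicF.IsInvertible L) (p : Γ(X, ⊤))
    (hreg : ∀ x : X, IsSMulRegular (X.presheaf.stalk x) (X.presheaf.germ ⊤ x trivial p))
    (e₀ : Γ(L, X.basicOpen p)) (he₀ : Gen L (X.basicOpen p) e₀) (W : X.Opens)
    (hprime : ∀ x ∈ W, x ∉ X.basicOpen p →
      (Ideal.span {X.presheaf.germ ⊤ x trivial p}).IsPrime)
    (η : X) (hηW : η ∈ W) (hη : η ∉ X.basicOpen p)
    (hgen : ∀ x ∈ W, x ∉ X.basicOpen p → η ⤳ x) :
    ∃ s : Γ(L, W), Gen L W s := by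
  obtain ⟨V₀, hηV₀, hV₀W, g₀, k₀, n₀, hg₀, hrel₀⟩ :=
    exists_local_gen hL p e₀ he₀ η W hηW (hreg η) (hprime η hηW hη)
  have hP : IsUnit (resX X (le_top : X.basicOpen p ≤ ⊤) p) :=
    RingedSpace.isUnit_res_basicOpen X.toRingedSpace p
  let e₁ : Γ(L, X.basicOpen p) :=
    ((↑hP.unit⁻¹ : Γ(X, X.basicOpen p)) ^ k₀ * resX X (le_top : X.basicOpen p ≤ ⊤) p ^ n₀) • e₀
  have he₁ : Gen L (X.basicOpen p) e₁ :=
    he₀.smul_unit (((hP.unit⁻¹).isUnit.pow _).mul (hP.pow _))
  have hlocal : ∀ x : W, ∃ (V : X.Opens) (_ : x.1 ∈ V) (_ : V ≤ W) (g : Γ(L, V)), Gen L V g ∧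
      res L (inf_le_left : V ⊓ X.basicOpen p ≤ V) g = res L (inf_le_right : V ⊓ X.basicOpen p ≤ X.basicOpen p) e₁ := by
    rintro ⟨x, hxW⟩
    by_cases hx : x ∈ X.basicOpen p
    · refine ⟨W ⊓ X.basicOpen p, ⟨hxW, hx⟩, inf_le_left, res L inf_le_right e₁, he₁.res _, ?_⟩
      rw [res_res]
    · obtain ⟨V, hxV, hVW, g, k, n, hg, hrel⟩ :=
        exists_local_gen hL p e₀ he₀ x W hxW (hreg x) (hprime x hxW hx)
      refine ⟨V, hxV, hVW, g, hg, ?_⟩
      have hηV : η ∈ V := (hgen x hxW hx).mem_open V.2 hxV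
      let U := V ⊓ V₀
      let P : ∀ (O : X.Opens), Γ(X, O) := fun O => resX X (le_top : O ≤ ⊤) p
      obtain ⟨v, hvu, hv⟩ : ∃ v : Γ(X, U), IsUnit v ∧
          res L (inf_le_left : U ≤ V) g = v • res L (inf_le_right : U ≤ V₀) g₀ := by
        obtain ⟨v, hv⟩ := hg₀.exists_coeff (inf_le_right : U ≤ V₀) (res L (inf_le_left : U ≤ V) g)
        exact ⟨v, (hg₀.res inf_le_right).isUnit_of_smul (hv ▸ hg.res inf_le_left), hv⟩
      have hUV : U ⊓ X.basicOpen p ≤ V ⊓ X.basicOpen p := inf_le_inf_right _ inf_le_left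
      have hUV₀ : U ⊓ X.basicOpen p ≤ V₀ ⊓ X.basicOpen p := inf_le_inf_right _ inf_le_right
      have r1 := congrArg (res L hUV) hrel
      have r2 := congrArg (res L hUV₀) hrel₀
      have r3 := congrArg (res L (inf_le_left : U ⊓ X.basicOpen p ≤ U)) hv
      simp only [res_smul, res_res, map_pow, resX_resX] at r1 r2 r3
      rw [r3] at r1
      have key : resX X (inf_le_left : U ⊓ X.basicOpen p ≤ U) (P U ^ (n₀ + k) * v - P U ^ (n + k₀)) = 0 := by
        rw [map_sub, sub_eq_zero, map_mul, map_pow, map_pow, resX_resX]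
        refine hg₀.smul_inj (inf_le_left.trans inf_le_right) ?_
        rw [pow_add, pow_add, mul_assoc, mul_smul, mul_smul, mul_smul, r1, r2, ← mul_smul,
          ← mul_smul, mul_comm]
      have hkey := sub_eq_zero.mp (eq_zero_of_resX_basicOpen p hreg _ key)
      have hη' : η ∈ U := ⟨hηV, hηV₀⟩
      have hgerm := congrArg (X.presheaf.germ U η hη') hkey
      simp only [map_mul, map_pow] at hgerm
      erw [X.presheaf.germ_res_apply] at hgerm
      have hexp : n + k₀ = n₀ + k := pow_eq_of_unit_mul (hreg η)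
        (fun h => hη ((Scheme.mem_basicOpen_top X p η).2 h))
        (hvu.map (X.presheaf.germ U η hη').hom) hgerm.symm
      have hPV : IsUnit (P (V ⊓ X.basicOpen p)) := by
        have := hP.map (resX X (inf_le_right : V ⊓ X.basicOpen p ≤ X.basicOpen p))
        rwa [resX_resX] at this
      change res L _ g = res L _ e₁
      simp only [e₁, res_smul, map_mul, map_pow, resX_resX]
      set Q := resX X (inf_le_right : V ⊓ X.basicOpen p ≤ X.basicOpen p)
        (↑hP.unit⁻¹ : Γ(X, X.basicOpen p)) with hQ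
      have hQP : Q * P (V ⊓ X.basicOpen p) = 1 := by
        have h1 := congrArg (resX X (inf_le_right : V ⊓ X.basicOpen p ≤ X.basicOpen p))
          hP.val_inv_mul
        rwa [map_mul, map_one, resX_resX] at h1
      calc res L (inf_le_left : V ⊓ X.basicOpen p ≤ V) g
          = (Q ^ k * P (V ⊓ X.basicOpen p) ^ k) • res L (inf_le_left : V ⊓ X.basicOpen p ≤ V) g := by
            rw [← mul_pow, hQP, one_pow, one_smul]
        _ = (Q ^ k * P (V ⊓ X.basicOpen p) ^ n) • res L (inf_le_right : V ⊓ X.basicOpen p ≤ X.basicOpen p) e₀ := by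
            rw [mul_smul, hrel, ← mul_smul]
        _ = (Q ^ (k + k₀) * P (V ⊓ X.basicOpen p) ^ (n + k₀)) • res L (inf_le_right : V ⊓ X.basicOpen p ≤ X.basicOpen p) e₀ := by
            congr 1
            rw [pow_add, pow_add, mul_mul_mul_comm, ← mul_pow Q _ k₀, hQP, one_pow, mul_one]
        _ = _ := by
            congr 1
            rw [hexp, add_comm k k₀, add_comm n₀ k, pow_add, pow_add, mul_assoc,
              ← mul_assoc (Q ^ k), ← mul_pow, hQP, one_pow, one_mul]
  choose V hxV hVW g hg hgrel using hlocal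
  have hcov : W ≤ iSup V := fun x hx => Opens.mem_iSup.2 ⟨⟨x, hx⟩, hxV ⟨x, hx⟩⟩
  obtain ⟨s, hs, -⟩ := res_glue (M := L) V hVW hcov g fun i j => by
    refine gen_eq_of_res_basicOpen p hreg ((hg i).res inf_le_left) _ _ ?_
    rw [res_res, res_res]
    have a := congrArg (res L (inf_le_inf_right _ inf_le_left :
      (V i ⊓ V j) ⊓ X.basicOpen p ≤ V i ⊓ X.basicOpen p)) (hgrel i)
    have b := congrArg (res L (inf_le_inf_right _ inf_le_right :
      (V i ⊓ V j) ⊓ X.basicOpen p ≤ V j ⊓ X.basicOpen p)) (hgrel j)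
    rw [res_res, res_res] at a b
    exact a.trans b.symm
  refine ⟨s, Gen.of_cover V hVW hcov fun i => ?_⟩
  rw [hs]
  exact hg i

end Groth.PicSmooth
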