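import Groth.Agent.PicSmooth.Separated
import Groth.Agent.PicAux.UFDExtend
import Groth.Agent.PicAux.RegularUFD
import Groth.Agent.NeronArea.WeilExtensionBase

/-!
# The valuative criterion for closed subschemes of the relative Picard scheme
-/

set_option autoImplicit false
universe u

open CategoryTheory Limits AlgebraicGeometry TopologicalSpace IsLocalRing

noncomputable section

namespace Groth.PicSmooth

open Groth.Abvar.PicCalc Groth.Limits
open scoped Groth.Abvar.PicCalc

/-- Valuative existence after extensions of valuation rings gives universal closedness. -/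
theorem universallyClosed_of_dvr_ext {X S : Scheme.{u}} [IsLocallyNoetherian S] (f : X ⟶ S)
    [LocallyOfFiniteType f] [QuasiCompact f]
    (H : ∀ (A : Type u) [CommRing A] [IsDomain A] [IsDiscreteValuationRing A]
      (x : Spec (CommRingCat.of (FractionRing A)) ⟶ X) (y : Spec (CommRingCat.of A) ⟶ S),
      x ≫ f = genericPointMap A ≫ y →
      ∃ (A' : Type u) (_ : CommRing A') (_ : IsLocalRing A') (L : Type u) (_ : Field L)
        (ι : A →+* A') (j : A' →+* L) (ψ : FractionRing A →+* L)
        (l : Spec (CommRingCat.of A') ⟶ X),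
        IsLocalHom ι ∧ j.comp ι = ψ.comp (algebraMap A (FractionRing A)) ∧
        l ≫ f = Spec.map (CommRingCat.ofHom ι) ≫ y ∧
        Spec.map (CommRingCat.ofHom j) ≫ l = Spec.map (CommRingCat.ofHom ψ) ≫ x) :
    UniversallyClosed f := by
  refine Groth.ZetaAn.universallyClosed_of_lfp f fun T g hg ↦ ?_
  have := LocallyOfFiniteType.isLocallyNoetherian g
  rw [isClosedMap_iff_specializingMap]
  intro x s hxs
  rcases eq_or_ne s (pullback.snd f g x) with rfl | hne
  · exact ⟨x, specializes_rfl, rfl⟩
  obtain ⟨A, _, _, _, e, he, m, hcl, hm⟩ := exists_dvr_square (pullback.snd f g) x s hxs hne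
  let k := Spec.map e ≫ (pullback f g).fromSpecResidueField x
  obtain ⟨A', _, _, L, _, ι, j, ψ, l, hι, hcomm, hl₁, hl₂⟩ := H A (k ≫ pullback.fst f g) (m ≫ g)
    (by rw [reassoc_of% hm, Category.assoc, pullback.condition, Category.assoc])
  let l' : Spec (CommRingCat.of A') ⟶ pullback f g :=
    pullback.lift l (Spec.map (CommRingCat.ofHom ι) ≫ m) (by rw [hl₁, Category.assoc])
  have hl' : Spec.map (CommRingCat.ofHom j) ≫ l' = Spec.map (CommRingCat.ofHom ψ) ≫ k := by
    refine pullback.hom_ext ?_ ?_
    · rw [Category.assoc, pullback.lift_fst, hl₂]; simp only [k, Category.assoc]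
    · rw [Category.assoc, pullback.lift_snd, Category.assoc, ← hm, genericPointMap,
        ← Category.assoc, ← Category.assoc, ← Spec.map_comp, ← Spec.map_comp]
      exact congrArg (fun r => Spec.map (CommRingCat.ofHom r) ≫ m) hcomm
  refine ⟨l' (closedPoint A'), ?_, ?_⟩
  · have h1 : (Spec.map (CommRingCat.ofHom ψ) ≫ k) (closedPoint L) = x := by
      rw [Scheme.Hom.comp_apply, Scheme.Hom.comp_apply, Scheme.fromSpecResidueField_apply]
    rw [← hl', Scheme.Hom.comp_apply] at h1
    exact h1 ▸ (IsLocalRing.specializes_closedPoint _).map l'.continuous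
  · rw [← Scheme.Hom.comp_apply, pullback.lift_snd, Scheme.Hom.comp_apply, ← hcl]
    exact congrArg m (comap_closedPoint ι)

variable {X S : Scheme.{u}} [IsLocallyNoetherian S] (f : X ⟶ S) [IsProper f] [Smooth f]
  {P : Over S} {φ : ∀ T : Over S, PicF.Cl (PicF.XT f T) → (T ⟶ P)}
  (hP : PicRel.IsRelPic f P φ)

omit [IsLocallyNoetherian S] in
/-- An invertible class on the generic fibre over a discrete valuation ring extends. -/
theorem exists_pull_eq_of_dvr {B : Type u} [CommRing B] [IsDomain B] [IsDiscreteValuationRing B]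
    (L : Type u) [Field L] [Algebra B L] [IsFractionRing B L] (hB : Spec (CommRingCat.of B) ⟶ S)
    {T : Over S} (q : T ⟶ Over.mk hB) [IsOpenImmersion q.left]
    (c : PicLoc.PicSet (PicF.XT f T)) :
    ∃ c' : PicLoc.PicSet (PicF.XT f (Over.mk hB)), pull (PicF.XTmap f q) c' = c := by
  let π := PicF.XTproj f (Over.mk hB)
  have : Smooth π := inferInstanceAs (Smooth (pullback.snd f hB))
  let g := PicF.XTmap f q
  have : IsOpenImmersion g := MorphismProperty.of_isPullback (isPullback_XTmap f q).flip ‹_›
  have : IsLocallyNoetherian (Over.mk hB).left :=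
    inferInstanceAs (IsLocallyNoetherian (Spec (CommRingCat.of B)))
  have : IsLocallyNoetherian (PicF.XT f (Over.mk hB)) :=
    LocallyOfFiniteType.isLocallyNoetherian π
  have hreg : ∀ x : PicF.XT f (Over.mk hB),
      UniqueFactorizationMonoid ((PicF.XT f (Over.mk hB)).presheaf.stalk x) := fun x => by
    have : IsRegularLocalRing ((PicF.XT f (Over.mk hB)).presheaf.stalk x) :=
      Groth.NeronArea.Weil.isRegularLocalRing_of_smooth_dedekind π x
    exact Groth.PicAux.ufd_of_isRegularLocalRing _
  obtain ⟨M, hM, rfl⟩ := PicGrp.exists_eq_cls c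
  let e := IsOpenImmersion.isoOfRangeEq g g.opensRange.ι (by rw [Scheme.Opens.range_ι]; rfl)
  have he : e.hom ≫ g.opensRange.ι = g := IsOpenImmersion.isoOfRangeEq_hom_fac _ _ _
  obtain ⟨M', hM', ⟨i⟩⟩ := PicAux.exists_extension_module g.opensRange
    ((Scheme.Modules.pullback e.inv).obj M) (PicAux.isInvertible_pullback e.inv hM)
    (fun x _ => hreg x)
  refine ⟨Abvar.PicCalc.cls hM', ?_⟩
  change pull g _ = _
  rw [← he, pull_comp]
  have h1 : pull g.opensRange.ι (Abvar.PicCalc.cls hM') = pull e.inv (Abvar.PicCalc.cls hM) := by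
    rw [pull_cls, pull_cls]
    exact (nonempty_iso_iff _ _).1
      ⟨((Scheme.Modules.restrictFunctorIsoPullback g.opensRange.ι).app M').symm ≪≫ i⟩
  rw [h1, ← pull_comp, e.hom_inv_id, pull_id]

include hP in
/-- Closed subschemes of finite type of the relative Picard scheme are universally closed. -/
theorem universallyClosed_of_isClosedImmersion {Z : Scheme.{u}} (i : Z ⟶ P.left)
    [IsClosedImmersion i] [LocallyOfFiniteType (i ≫ P.hom)] [QuasiCompact (i ≫ P.hom)] :
    UniversallyClosed (i ≫ P.hom) := by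
  refine universallyClosed_of_dvr_ext _ fun A _ _ _ x y hxy => ?_
  let h := genericPointMap A ≫ y
  let g : Over.mk h ⟶ P := Over.homMk (x ≫ i) (by rw [Category.assoc]; exact hxy)
  obtain ⟨L, _, ψ, hψ, c, hc⟩ := exists_phi_eq f hP h g
  obtain ⟨A', _, _, _, _, _, ι, hι, hcomm⟩ := exists_dvr_ext A L ψ.hom hψ
  let hB := Spec.map (CommRingCat.ofHom ι) ≫ y
  have hsq : Spec.map (CommRingCat.ofHom (algebraMap A' L)) ≫ Spec.map (CommRingCat.ofHom ι) =
      Spec.map ψ ≫ genericPointMap A := by
    rw [genericPointMap, ← Spec.map_comp, ← Spec.map_comp]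
    exact congrArg (fun r => Spec.map (CommRingCat.ofHom r)) hcomm
  let q : extPt h ψ ⟶ Over.mk hB :=
    Over.homMk (Spec.map (CommRingCat.ofHom (algebraMap A' L))) (by
      change Spec.map (CommRingCat.ofHom (algebraMap A' L)) ≫ Spec.map (CommRingCat.ofHom ι) ≫ y =
        Spec.map ψ ≫ genericPointMap A ≫ y
      rw [reassoc_of% hsq])
  obtain ⟨ϖ, hϖ⟩ := IsDiscreteValuationRing.exists_irreducible A'
  have := isLocalization_away hϖ L
  have : IsOpenImmersion q.left := IsOpenImmersion.of_isLocalization ϖ
  obtain ⟨c', hc'⟩ := exists_pull_eq_of_dvr f L hB q c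
  let l₀ : Spec (CommRingCat.of A') ⟶ P.left := (φ (Over.mk hB) c'.1).left
  have hgen : q.left ≫ l₀ = Spec.map ψ ≫ x ≫ i := by
    have := phi_natural_left f hP q c'
    rw [hc', hc] at this
    exact this.symm
  let j₁ := pullback.snd i l₀
  have : Surjective j₁ := by
    let s := pullback.lift (f := i) (g := l₀) (Spec.map ψ ≫ x) q.left
      (by rw [Category.assoc]; exact hgen.symm)
    refine ⟨fun p => ?_⟩
    have hcl : IsClosed (Set.range j₁) := j₁.isClosedEmbedding.isClosed_range
    have hη : q.left (closedPoint L) ⤳ p := by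
      refine (PrimeSpectrum.le_iff_specializes (R := A') _ p).1 ?_
      change Ideal.comap (algebraMap A' L) (closedPoint L).asIdeal ≤ p.asIdeal
      rw [show (closedPoint L).asIdeal = ⊥ from IsLocalRing.maximalIdeal_eq_bot,
        Ideal.comap_bot_of_injective _ (IsFractionRing.injective A' L)]
      exact bot_le
    refine hη.mem_closed hcl ⟨s (closedPoint L), ?_⟩
    rw [← Scheme.Hom.comp_apply, pullback.lift_snd]
  have : IsIso j₁ := isIso_of_isClosedImmersion_of_surjective j₁
  let l := inv j₁ ≫ pullback.fst i l₀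
  have hl : l ≫ i = l₀ := by
    rw [Category.assoc, pullback.condition, IsIso.inv_hom_id_assoc]
  refine ⟨A', inferInstance, inferInstance, L, inferInstance, ι, algebraMap A' L, ψ.hom, l, hι,
    hcomm, ?_, ?_⟩
  · rw [← Category.assoc, hl]
    exact Over.w (φ (Over.mk hB) c'.1)
  · rw [← cancel_mono i, Category.assoc, hl, Category.assoc]
    exact hgen

end Groth.PicSmooth
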