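import Groth.Agent.PicSmooth.Agree
import Groth.Agent.PicAux.SeesawAnyBase
import Mathlib.AlgebraicGeometry.Morphisms.Separated
import Mathlib.AlgebraicGeometry.Morphisms.UniversallyOpen

/-!
# Separatedness of the relative Picard scheme of a proper smooth morphism
-/

set_option autoImplicit false
universe u

open CategoryTheory Limits AlgebraicGeometry TopologicalSpace Opposite

noncomputable section

namespace Groth.PicSmooth

open Groth.Abvar.PicCalc Groth.SpectralTopology
open scoped Groth.Abvar.PicCalc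

set_option backward.isDefEq.respectTransparency false in
set_option backward.defeqAttrib.useBackward true in
/-- An invertible module on the family over `A` comes from a stage, compatibly with the projection. -/
theorem exists_stage {R A : CommRingCat.{u}} [Algebra R A] {T : Scheme.{u}} (g : T ⟶ Spec R)
    [IsProper g] {P : Scheme.{u}} {p : P ⟶ T} {π : P ⟶ Spec A}
    (sq : IsPullback p π g (Spec.map (CommRingCat.ofHom (algebraMap R A))))
    {E : P.Modules} (hE : PicF.IsInvertible E) :
    ∃ (s : (AlgSub R A)ᵒᵖ) (m : P ⟶ pullback g (algToBase R A s))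
      (E₀ : (pullback g (algToBase R A s)).Modules),
      m ≫ pullback.fst _ _ = p ∧ m ≫ pullback.snd _ _ = π ≫ (algCone R A).π.app s ∧
      PicF.IsInvertible E₀ ∧ Nonempty ((Scheme.Modules.pullback m).obj E₀ ≅ E) := by
  open Groth.PicAux.SeesawAnyBase in
  have : ∀ {s t : (AlgSub R A)ᵒᵖ} (φ : s ⟶ t), IsAffineHom ((stageDiagram (A := A) g).map φ) :=
    isAffineHom_stageDiagram g
  have : ∀ s, IsAffine ((algSchemes R A).obj s) := fun s => inferInstanceAs (IsAffine (Spec _))
  open Groth.PicAux.SeesawAnyBase in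
  have : ∀ s, CompactSpace ((stageDiagram (A := A) g).obj s) := fun s =>
    have : IsProper (pullback.snd g (algToBase R A s)) := MorphismProperty.pullback_snd _ _ ‹_›
    QuasiCompact.compactSpace_of_compactSpace (pullback.snd g (algToBase R A s))
  open Groth.PicAux.SeesawAnyBase in
  have : ∀ s, QuasiSeparatedSpace ((stageDiagram (A := A) g).obj s) := fun s =>
    have : IsProper (pullback.snd g (algToBase R A s)) := MorphismProperty.pullback_snd _ _ ‹_›
    quasiSeparatedSpace_of_quasiSeparated (pullback.snd g (algToBase R A s))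
  open Groth.PicAux.SeesawAnyBase in
  obtain ⟨hl⟩ := nonempty_isLimit_stageCone (A := A) g
  let e := sq.isoPullback
  obtain ⟨s₀⟩ := (inferInstance : Nonempty (AlgSub R A)ᵒᵖ)
  open Groth.PicAux.SeesawAnyBase in
  obtain ⟨s, -, E₀, hE₀, ⟨i⟩⟩ := Groth.PicAux.LimitInv.exists_stage_invertible
    (stageDiagram (A := A) g) (stageCone g) hl s₀ (PicAux.isInvertible_pullback e.inv hE)
  let c : pullback g (Spec.map (CommRingCat.ofHom (algebraMap R A))) ⟶ pullback g (algToBase R A s) :=
    pullback.map _ _ g (algToBase R A s) (𝟙 T) ((algCone R A).π.app s) (𝟙 _)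
      (by simp) ((Category.comp_id _).trans (algCone_π_toBase R A s).symm)
  refine ⟨s, e.hom ≫ c, E₀, ?_, ?_, hE₀, ⟨?_⟩⟩
  · rw [Category.assoc, pullback.lift_fst, Category.comp_id, sq.isoPullback_hom_fst]
  · rw [Category.assoc, pullback.lift_snd, ← Category.assoc, sq.isoPullback_hom_snd]
  · exact ((Scheme.Modules.pullbackComp e.hom c).app E₀).symm ≪≫
      (Scheme.Modules.pullback e.hom).mapIso i ≪≫
      (Scheme.Modules.pullbackComp e.hom e.inv).app E ≪≫
      (Scheme.Modules.pullbackCongr e.hom_inv_id).app E ≪≫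
      (Scheme.Modules.pullbackId P).app E

variable {X S : Scheme.{u}} (f : X ⟶ S) [IsProper f] [Smooth f]
  {P : Over S} {φ : ∀ T : Over S, PicF.Cl (PicF.XT f T) → (T ⟶ P)}
  (hP : PicRel.IsRelPic f P φ) [IsLocallyNoetherian S]

include hP in
/-- The agreement locus is closed over an affine test scheme. -/
theorem isClosed_agree_affine {U : S.Opens} (hU : IsAffineOpen U) (A : CommRingCat.{u})
    (a : Γ(S, U) ⟶ A)
    (N : PicLoc.PicSet (PicF.XT f (Over.mk (Spec.map a ≫ hU.fromSpec)))) :
    IsClosed {w | Agree f φ (Over.mk (Spec.map a ≫ hU.fromSpec)) N w} := by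
  let R : CommRingCat.{u} := Γ(S, U)
  let _ : Algebra R A := a.hom.toAlgebra
  have : IsNoetherianRing R := IsLocallyNoetherian.component_noetherian ⟨U, hU⟩
  let B : Over S := Over.mk hU.fromSpec
  let TA : Over S := Over.mk (Spec.map a ≫ hU.fromSpec)
  let t : TA ⟶ B := Over.homMk (Spec.map a) rfl
  let g : PicF.XT f B ⟶ Spec R := PicF.XTproj f B
  have : IsProper g := inferInstanceAs (IsProper (pullback.snd f hU.fromSpec))
  obtain ⟨E, hE, rfl⟩ := PicGrp.exists_eq_cls N
  obtain ⟨s, m, E₀, hm₁, hm₂, hE₀, ⟨i⟩⟩ :=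
    exists_stage (A := A) g (p := PicF.XTmap f t) (π := PicF.XTproj f TA) (isPullback_XTmap f t) hE
  let T₀ : Over S := Over.mk (algToBase R A s ≫ hU.fromSpec)
  let w : T₀ ⟶ B := Over.homMk (algToBase R A s) rfl
  let e : PicF.XT f T₀ ≅ pullback g (algToBase R A s) := (isPullback_XTmap f w).isoPullback
  have : IsNoetherianRing s.unop.1 := by
    have : Algebra.FiniteType R s.unop.1 := s.unop.1.fg_iff_finiteType.1 s.unop.2
    exact Algebra.FiniteType.isNoetherianRing R _
  have : IsNoetherian T₀.left :=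
    inferInstanceAs (IsNoetherian (Spec (CommRingCat.of s.unop.1)))
  let v : TA ⟶ T₀ := Over.homMk ((algCone R A).π.app s) (by
    change (algCone R A).π.app s ≫ algToBase R A s ≫ hU.fromSpec = Spec.map a ≫ hU.fromSpec
    rw [← Category.assoc, algCone_π_toBase]
    rfl)
  have hv : PicF.XTmap f v ≫ e.hom = m := by
    apply pullback.hom_ext
    · refine ((Category.assoc _ _ _).trans (congrArg (PicF.XTmap f v ≫ ·)
        (isPullback_XTmap f w).isoPullback_hom_fst)).trans ?_
      rw [hm₁, XTmap_comp]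
      refine congrArg (PicF.XTmap f) (Over.OverMorphism.ext ?_)
      exact algCone_π_toBase R A s
    · refine ((Category.assoc _ _ _).trans (congrArg (PicF.XTmap f v ≫ ·)
        (isPullback_XTmap f w).isoPullback_hom_snd)).trans ?_
      rw [hm₂]
      exact XTmap_snd f v
  let N₀ := pull e.hom (Abvar.PicCalc.cls hE₀)
  have hN : pull (PicF.XTmap f v) N₀ = Abvar.PicCalc.cls hE := by
    rw [← pull_comp, hv, pull_cls]
    exact (nonempty_iso_iff _ _).1 ⟨i⟩
  have key : {w | Agree f φ TA (Abvar.PicCalc.cls hE) w} = v.left ⁻¹' {w | Agree f φ T₀ N₀ w} := by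
    ext y
    rw [← hN]
    exact agree_pullback f hP v N₀ y
  change IsClosed {w | Agree f φ TA (Abvar.PicCalc.cls hE) w}
  rw [key]
  exact (isClosed_agree_of_isNoetherian f hP T₀ N₀).preimage v.left.continuous

include hP in
/-- The agreement locus is closed. -/
theorem isClosed_agree (T : Over S) (N : PicLoc.PicSet (PicF.XT f T)) :
    IsClosed {w | Agree f φ T N w} := by
  rw [← isOpen_compl_iff, isOpen_iff_forall_mem_open]
  intro y hy
  obtain ⟨_, ⟨U, hU, rfl⟩, hyU, -⟩ :=
    S.isBasis_affineOpens.exists_subset_of_mem_open (Set.mem_univ (T.hom y)) isOpen_univ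
  obtain ⟨_, ⟨V, hV, rfl⟩, hyV, hVU⟩ :=
    T.left.isBasis_affineOpens.exists_subset_of_mem_open (show y ∈ T.hom ⁻¹ᵁ U from hyU)
      (T.hom ⁻¹ᵁ U).2
  let a := T.hom.appLE U V hVU
  let TA : Over S := Over.mk (Spec.map a ≫ hU.fromSpec)
  let u : TA ⟶ T := Over.homMk hV.fromSpec (IsAffineOpen.SpecMap_appLE_fromSpec _ hU hV hVU).symm
  have hcl := isClosed_agree_affine f hP hU Γ(T.left, V) a (pull (PicF.XTmap f u) N)
  refine ⟨hV.fromSpec '' {w | Agree f φ TA (pull (PicF.XTmap f u) N) w}ᶜ, ?_,
    hV.fromSpec.isOpenEmbedding.isOpenMap _ hcl.isOpen_compl, ?_⟩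
  · rintro _ ⟨z, hz, rfl⟩ hA
    exact hz ((agree_pullback f hP u N z).2 hA)
  · obtain ⟨z, rfl⟩ : y ∈ Set.range hV.fromSpec := by rw [hV.range_fromSpec]; exact hyV
    exact ⟨z, fun h => hy ((agree_pullback f hP u N z).1 h), rfl⟩

include hP in
/-- The relative Picard scheme of a proper smooth morphism is separated. -/
theorem isSeparated : IsSeparated P.hom := by
  refine ⟨IsClosedImmersion.of_isPreimmersion _ ?_⟩
  let T : Over S := Over.mk (pullback.fst P.hom P.hom ≫ P.hom)
  let a : T ⟶ P := Over.homMk (pullback.fst P.hom P.hom) rfl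
  let b : T ⟶ P := Over.homMk (pullback.snd P.hom P.hom) pullback.condition.symm
  let E : Set T.left := {t | T.left.fromSpecResidueField t ≫ a.left =
    T.left.fromSpecResidueField t ≫ b.left}
  have hrange : Set.range (pullback.diagonal P.hom) = E := by
    ext t
    constructor
    · rintro ⟨p, rfl⟩
      have := epi_spec_field ((pullback.diagonal P.hom).residueFieldMap p)
      have hsq := Scheme.Hom.SpecMap_residueFieldMap_fromSpecResidueField
        (pullback.diagonal P.hom) p
      refine (cancel_epi (Spec.map ((pullback.diagonal P.hom).residueFieldMap p))).mp ?_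
      refine ((Category.assoc _ _ _).symm.trans ((congrArg (· ≫ a.left) hsq).trans ?_)).trans
        ((congrArg (· ≫ b.left) hsq).symm.trans (Category.assoc _ _ _))
      rw [Category.assoc, Category.assoc]
      exact congrArg (_ ≫ ·) ((pullback.diagonal_fst P.hom).trans (pullback.diagonal_snd P.hom).symm)
    · intro h
      refine ⟨(T.left.fromSpecResidueField t ≫ a.left) (IsLocalRing.closedPoint _), ?_⟩
      have e : (T.left.fromSpecResidueField t ≫ a.left) ≫ pullback.diagonal P.hom =
          T.left.fromSpecResidueField t := by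
        apply pullback.hom_ext
        · rw [Category.assoc, pullback.diagonal_fst, Category.comp_id]; rfl
        · rw [Category.assoc, pullback.diagonal_snd, Category.comp_id]; exact h
      rw [← Scheme.Hom.comp_apply, e, Scheme.fromSpecResidueField_apply]
  rw [hrange, ← isOpen_compl_iff, isOpen_iff_forall_mem_open]
  intro t ht
  obtain ⟨ιa, Ua, hUa, hca⟩ := hP.locallySurjective T a
  obtain ⟨ιb, Ub, hUb, hcb⟩ := hP.locallySurjective T b
  obtain ⟨i, x, hx⟩ := hUa t
  obtain ⟨j, y, hy⟩ := hUb t
  obtain ⟨z, hz, -⟩ := Scheme.Pullback.exists_preimage_pullback (f := (Ua i).hom) (g := (Ub j).hom)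
    x y (hx.trans hy.symm)
  let q : pullback (Ua i).hom (Ub j).hom ⟶ T.left := pullback.fst _ _ ≫ (Ua i).hom
  have : Flat q := inferInstance
  have : LocallyOfFinitePresentation q := inferInstance
  let W : Over S := Over.mk (q ≫ T.hom)
  let wu : W ⟶ PicRel.ovr T (Ua i) := Over.homMk (pullback.fst _ _) (Category.assoc _ _ _).symm
  let wv : W ⟶ PicRel.ovr T (Ub j) := Over.homMk (pullback.snd _ _) (by
    change pullback.snd (Ua i).hom (Ub j).hom ≫ (Ub j).hom ≫ T.hom =
      (pullback.fst _ _ ≫ (Ua i).hom) ≫ T.hom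
    rw [← Category.assoc, ← pullback.condition])
  obtain ⟨c, hc, hcφ⟩ := hca i
  obtain ⟨d, hd, hdφ⟩ := hcb j
  let cW : PicLoc.PicSet (PicF.XT f W) := pull (PicF.XTmap f wu) ⟨c, hc⟩
  let dW : PicLoc.PicSet (PicF.XT f W) := pull (PicF.XTmap f wv) ⟨d, hd⟩
  have hcW : (φ W cW.1).left = q ≫ a.left := by
    refine (phi_natural_left f hP wu ⟨c, hc⟩).trans ?_
    rw [hcφ]
    exact (Category.assoc _ _ _).symm
  have hdW : (φ W dW.1).left = q ≫ b.left := by
    refine (phi_natural_left f hP wv ⟨d, hd⟩).trans ?_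
    rw [hdφ]
    exact ((Category.assoc _ _ _).symm).trans (congrArg (· ≫ b.left) pullback.condition.symm)
  have hclosed := isClosed_agree f hP W (cW * dW⁻¹)
  have hpre : ∀ w : W.left, q w ∈ E ↔ Agree f φ W (cW * dW⁻¹) w := fun w => by
    rw [← eq_iff_agree f hP W cW dW w, hcW, hdW]
    have := epi_spec_field (q.residueFieldMap w)
    have e : ∀ p : T.left ⟶ P.left, W.left.fromSpecResidueField w ≫ q ≫ p =
        Spec.map (q.residueFieldMap w) ≫ T.left.fromSpecResidueField (q w) ≫ p := fun p => by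
      rw [← Category.assoc, ← Category.assoc]
      exact congrArg (· ≫ p) (Scheme.Hom.SpecMap_residueFieldMap_fromSpecResidueField q w).symm
    rw [e, e, cancel_epi]
    rfl
  have hqz : q z = t := by
    change (pullback.fst (Ua i).hom (Ub j).hom ≫ (Ua i).hom) z = t
    rw [Scheme.Hom.comp_apply, hz, hx]
  refine ⟨q '' {w | Agree f φ W (cW * dW⁻¹) w}ᶜ, ?_, q.isOpenMap _ hclosed.isOpen_compl,
    z, ?_, hqz⟩
  · rintro _ ⟨w, hw, rfl⟩ hE
    exact hw ((hpre w).mp hE)
  · intro h
    exact ht (hqz ▸ (hpre z).mpr h)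

end Groth.PicSmooth
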